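import Mathlib

set_option autoImplicit false

/-!
WeilSp / S2347, piece P7a (helper4): irreducibility from the commutant.

If every matrix commuting with `ω(G)` lies in `span {1, P}` and `U ≠ ⊥` is an `ω(G)`-invariant
subspace of the `ε`-eigenspace of `P`, then `U` is the whole `ε`-eigenspace (Maschke by averaging).
-/

namespace Cfsg.Agent.WeilSp

open Matrix

theorem irr_of_commutant {G : Type*} [Group G] [Finite G] {ι : Type*} [Fintype ι] [DecidableEq ι]
    (ω : G →* GL ι ℂ) (P : Matrix ι ι ℂ)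
    (hcomm : ∀ T : Matrix ι ι ℂ,
      (∀ g, (ω g : Matrix ι ι ℂ) * T = T * (ω g : Matrix ι ι ℂ)) →
        ∃ a b : ℂ, T = a • (1 : Matrix ι ι ℂ) + b • P)
    (ε : ℂ) (U : Submodule ℂ (ι → ℂ))
    (hU : ∀ g, ∀ f ∈ U, (ω g : Matrix ι ι ℂ) *ᵥ f ∈ U)
    (hUε : ∀ f ∈ U, P *ᵥ f = ε • f) (hU0 : U ≠ ⊥) :
    ∀ f : ι → ℂ, P *ᵥ f = ε • f → f ∈ U := by
  classical
  have : Fintype G := Fintype.ofFinite G
  -- a linear projection onto `U`
  obtain ⟨p, hp⟩ := LinearMap.exists_leftInverse_of_injective U.subtype (Submodule.ker_subtype U)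
  have hp' : ∀ u : U, p (u : ι → ℂ) = u := fun u => LinearMap.congr_fun hp u
  set π₀ : Module.End ℂ (ι → ℂ) := U.subtype ∘ₗ p with hπ₀
  have hπ₀U : ∀ f, π₀ f ∈ U := fun f => (p f).2
  have hπ₀id : ∀ u ∈ U, π₀ u = u := by
    intro u hu
    show ((p u : U) : ι → ℂ) = u
    have := hp' ⟨u, hu⟩
    rw [this]
  -- the operators of the group
  set Ω : G → Module.End ℂ (ι → ℂ) := fun g => Matrix.toLin' (ω g : Matrix ι ι ℂ) with hΩ
  have hΩapply : ∀ g f, Ω g f = (ω g : Matrix ι ι ℂ) *ᵥ f := fun g f => rfl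
  have hΩmul : ∀ g h, Ω (g * h) = Ω g * Ω h := by
    intro g h
    show Matrix.toLin' ((ω (g * h) : GL ι ℂ) : Matrix ι ι ℂ) = _
    rw [map_mul, Units.val_mul, Matrix.toLin'_mul]
    rfl
  have hΩone : Ω 1 = 1 := by
    show Matrix.toLin' ((ω 1 : GL ι ℂ) : Matrix ι ι ℂ) = 1
    rw [map_one, Units.val_one, Matrix.toLin'_one]
    rfl
  have hΩinv : ∀ g f, Ω g (Ω g⁻¹ f) = f := by
    intro g f
    rw [← Module.End.mul_apply, ← hΩmul, mul_inv_cancel, hΩone, Module.End.one_apply]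
  -- the averaged projection
  set S : Module.End ℂ (ι → ℂ) := ∑ g : G, Ω g * π₀ * Ω g⁻¹ with hS
  have hcard : (Fintype.card G : ℂ) ≠ 0 := Nat.cast_ne_zero.mpr Fintype.card_ne_zero
  set π : Module.End ℂ (ι → ℂ) := (Fintype.card G : ℂ)⁻¹ • S with hπ
  have hSU : ∀ f, S f ∈ U := by
    intro f
    rw [hS, LinearMap.sum_apply]
    refine U.sum_mem (fun g _ => ?_)
    rw [Module.End.mul_apply, Module.End.mul_apply, hΩapply]
    exact hU g _ (hπ₀U _)
  have hπU : ∀ f, π f ∈ U := by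
    intro f
    rw [hπ, LinearMap.smul_apply]
    exact U.smul_mem _ (hSU f)
  have hSid : ∀ u ∈ U, S u = (Fintype.card G : ℂ) • u := by
    intro u hu
    rw [hS, LinearMap.sum_apply]
    have : ∀ g : G, (Ω g * π₀ * Ω g⁻¹) u = u := by
      intro g
      rw [Module.End.mul_apply, Module.End.mul_apply]
      have h1 : Ω g⁻¹ u ∈ U := by rw [hΩapply]; exact hU g⁻¹ u hu
      rw [hπ₀id _ h1, hΩinv]
    rw [Finset.sum_congr rfl (fun g _ => this g), Finset.sum_const, Finset.card_univ,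
      Nat.cast_smul_eq_nsmul]
  have hπid : ∀ u ∈ U, π u = u := by
    intro u hu
    rw [hπ, LinearMap.smul_apply, hSid u hu, smul_smul, inv_mul_cancel₀ hcard, one_smul]
  -- `S` commutes with the group
  have hScomm : ∀ h : G, Ω h * S = S * Ω h := by
    intro h
    rw [hS, Finset.mul_sum, Finset.sum_mul]
    refine Fintype.sum_equiv (Equiv.mulLeft h) _ _ (fun g => ?_)
    show Ω h * (Ω g * π₀ * Ω g⁻¹) = Ω (h * g) * π₀ * Ω (h * g)⁻¹ * Ω h
    rw [hΩmul, _root_.mul_inv_rev, hΩmul]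
    have : Ω h⁻¹ * Ω h = 1 := by rw [← hΩmul, inv_mul_cancel, hΩone]
    simp only [mul_assoc]
    rw [this, mul_one]
  have hπcomm : ∀ h : G, Ω h * π = π * Ω h := by
    intro h
    rw [hπ, mul_smul_comm, smul_mul_assoc, hScomm]
  -- as matrices
  set T : Matrix ι ι ℂ := LinearMap.toMatrix' π with hT
  have hTcomm : ∀ g, (ω g : Matrix ι ι ℂ) * T = T * (ω g : Matrix ι ι ℂ) := by
    intro g
    have h1 : LinearMap.toMatrix' (Ω g * π) = LinearMap.toMatrix' (π * Ω g) := by rw [hπcomm]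
    rw [Module.End.mul_eq_comp, Module.End.mul_eq_comp, LinearMap.toMatrix'_comp,
      LinearMap.toMatrix'_comp] at h1
    have h2 : LinearMap.toMatrix' (Ω g) = (ω g : Matrix ι ι ℂ) := LinearMap.toMatrix'_toLin' _
    rw [h2] at h1
    exact h1
  obtain ⟨a, b, hab⟩ := hcomm T hTcomm
  have hπeig : ∀ f : ι → ℂ, P *ᵥ f = ε • f → π f = (a + b * ε) • f := by
    intro f hf
    have h1 : π f = T *ᵥ f := by
      rw [hT, LinearMap.toMatrix'_mulVec]
    rw [h1, hab, Matrix.add_mulVec, Matrix.smul_mulVec, Matrix.smul_mulVec, Matrix.one_mulVec, hf,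
      smul_smul, add_smul]
  -- the scalar is `1`
  obtain ⟨u, hu, hu0⟩ := (Submodule.ne_bot_iff U).mp hU0
  have h1 : (a + b * ε) • u = u := by
    rw [← hπeig u (hUε u hu), hπid u hu]
  have h2 : a + b * ε = 1 := by
    have h3 : (a + b * ε - 1) • u = 0 := by rw [sub_smul, one_smul, h1, sub_self]
    rcases smul_eq_zero.mp h3 with h4 | h4
    · exact sub_eq_zero.mp h4
    · exact absurd h4 hu0
  intro f hf
  have h3 := hπeig f hf
  rw [h2, one_smul] at h3
  rw [← h3]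
  exact hπU f

end Cfsg.Agent.WeilSp
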