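import Mathlib

/-!
# S2347 / WeilSp piece P7b (helper9): from an invariant subspace with no proper invariant
subspaces to an irreducible `Representation ℂ G (Fin k → ℂ)`.
-/

set_option autoImplicit false

namespace Cfsg.Agent.WeilSp

open Matrix

/-- general transport: an invariant subspace `E` (of dimension `k > 0`) of a linear action `σ`
of a monoid `G` on `W`, having no invariant subspaces other than `⊥` and `E`, gives an irreducible
representation on `Fin k → K`. -/
theorem h9_exists_irr_of_invariant {K : Type*} [Field K] {G : Type*} [Monoid G]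
    {W : Type*} [AddCommGroup W] [Module K W] [Module.Finite K W]
    (σ : G →* Module.End K W) (E : Submodule K W)
    (hE : ∀ g, ∀ f ∈ E, σ g f ∈ E)
    (hirr : ∀ U : Submodule K W, U ≤ E → (∀ g, ∀ f ∈ U, σ g f ∈ U) → U = ⊥ ∨ U = E)
    (k : ℕ) (hk : Module.finrank K E = k) (hk0 : 0 < k) :
    ∃ ρ : Representation K G (Fin k → K), ρ.IsIrreducible := by
  classical
  -- the linear equivalence `E ≃ Fin k → K`
  have hfr : Module.finrank K E = Module.finrank K (Fin k → K) := by
    rw [hk, Module.finrank_fin_fun]
  let e : E ≃ₗ[K] (Fin k → K) := LinearEquiv.ofFinrankEq E (Fin k → K) hfr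
  -- the restricted action
  let τ : G → Module.End K E := fun g => (σ g).restrict (hE g)
  have hτ1 : τ 1 = 1 := by
    apply LinearMap.ext
    intro x
    apply Subtype.ext
    simp [τ, LinearMap.restrict_apply]
  have hτmul : ∀ g h, τ (g * h) = τ g * τ h := by
    intro g h
    apply LinearMap.ext
    intro x
    apply Subtype.ext
    simp [τ, LinearMap.restrict_apply, Module.End.mul_apply]
  let ρ : Representation K G (Fin k → K) :=
    { toFun := fun g => e.conj (τ g)
      map_one' := by
        rw [hτ1]
        apply LinearMap.ext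
        intro x
        simp [LinearEquiv.conj_apply]
      map_mul' := by
        intro g h
        rw [hτmul]
        apply LinearMap.ext
        intro x
        simp [LinearEquiv.conj_apply, Module.End.mul_apply] }
  have hρ : ∀ g (x : Fin k → K), ρ g x = e (τ g (e.symm x)) := by
    intro g x
    show e.conj (τ g) x = _
    simp [LinearEquiv.conj_apply]
  refine ⟨ρ, ?_⟩
  -- irreducibility
  have hEne : E ≠ ⊥ := by
    intro h
    rw [h, finrank_bot] at hk
    omega
  haveI : Nontrivial (Subrepresentation ρ) := by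
    refine ⟨⟨⊥, ⊤, ?_⟩⟩
    intro h
    have h2 : (⊥ : Subrepresentation ρ).toSubmodule = (⊤ : Subrepresentation ρ).toSubmodule := by
      rw [h]
    change (⊥ : Submodule K (Fin k → K)) = ⊤ at h2
    have h3 : Module.finrank K (⊥ : Submodule K (Fin k → K)) = k := by
      rw [h2, finrank_top, Module.finrank_fin_fun]
    rw [finrank_bot] at h3
    omega
  refine ⟨fun S => ?_⟩
  -- pull back `S` to a submodule of `W` inside `E`
  let U : Submodule K W := (S.toSubmodule.comap (e : E →ₗ[K] (Fin k → K))).map E.subtype
  have hUE : U ≤ E := by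
    intro x hx
    obtain ⟨y, _, rfl⟩ := Submodule.mem_map.mp hx
    exact y.2
  have hmemU : ∀ y : E, (y : W) ∈ U ↔ e y ∈ S.toSubmodule := by
    intro y
    constructor
    · intro hy
      obtain ⟨z, hz, hzy⟩ := Submodule.mem_map.mp hy
      have : z = y := Subtype.ext hzy
      rw [← this]
      exact hz
    · intro hy
      exact Submodule.mem_map.mpr ⟨y, hy, rfl⟩
  have hUinv : ∀ g, ∀ f ∈ U, σ g f ∈ U := by
    intro g f hf
    obtain ⟨y, hy, rfl⟩ := Submodule.mem_map.mp hf
    have hy' : e y ∈ S.toSubmodule := hy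
    have h1 : ρ g (e y) ∈ S.toSubmodule := S.apply_mem_toSubmodule g hy'
    rw [hρ, LinearEquiv.symm_apply_apply] at h1
    have h2 : ((τ g y : E) : W) ∈ U := (hmemU _).mpr h1
    simpa [τ, LinearMap.restrict_apply] using h2
  rcases hirr U hUE hUinv with h | h
  · left
    apply Subrepresentation.toSubmodule_injective
    change S.toSubmodule = ⊥
    rw [eq_bot_iff]
    intro x hx
    have h1 : ((e.symm x : E) : W) ∈ U := by
      rw [hmemU, LinearEquiv.apply_symm_apply]
      exact hx
    rw [h, Submodule.mem_bot] at h1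
    have h2 : e.symm x = 0 := Subtype.ext h1
    have h3 : x = 0 := by
      have := congrArg e h2
      simpa using this
    rw [h3]
    exact Submodule.zero_mem _
  · right
    apply Subrepresentation.toSubmodule_injective
    change S.toSubmodule = ⊤
    rw [eq_top_iff]
    intro x _
    have h1 : ((e.symm x : E) : W) ∈ U := by
      rw [h]
      exact (e.symm x).2
    rw [hmemU, LinearEquiv.apply_symm_apply] at h1
    exact h1

/-- **P7b** (statement verbatim from the WeilSp blueprint). -/
theorem exists_irr_rep {G : Type*} [Group G] {ι : Type*} [Fintype ι] [DecidableEq ι]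
    (ω : G →* GL ι ℂ) (E : Submodule ℂ (ι → ℂ))
    (hE : ∀ g, ∀ f ∈ E, (ω g : Matrix ι ι ℂ) *ᵥ f ∈ E)
    (hirr : ∀ U : Submodule ℂ (ι → ℂ), U ≤ E →
      (∀ g, ∀ f ∈ U, (ω g : Matrix ι ι ℂ) *ᵥ f ∈ U) → U = ⊥ ∨ U = E)
    (k : ℕ) (hk : Module.finrank ℂ E = k) (hk0 : 0 < k) :
    ∃ ρ : Representation ℂ G (Fin k → ℂ), ρ.IsIrreducible := by
  let σ : G →* Module.End ℂ (ι → ℂ) :=
    { toFun := fun g => Matrix.toLin' (ω g : Matrix ι ι ℂ)
      map_one' := by
        simp only [map_one, Units.val_one, Matrix.toLin'_one]
        rfl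
      map_mul' := by
        intro g h
        simp [Matrix.toLin'_mul, Module.End.mul_eq_comp] }
  have hσ : ∀ g f, σ g f = (ω g : Matrix ι ι ℂ) *ᵥ f := by
    intro g f
    show Matrix.toLin' (ω g : Matrix ι ι ℂ) f = _
    rw [Matrix.toLin'_apply]
  refine h9_exists_irr_of_invariant σ E ?_ ?_ k hk hk0
  · intro g f hf
    rw [hσ]
    exact hE g f hf
  · intro U hU hinv
    apply hirr U hU
    intro g f hf
    rw [← hσ]
    exact hinv g f hf

end Cfsg.Agent.WeilSp
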