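import Mathlib

set_option autoImplicit false

/-!
WeilSp / S2347 (helper2): base definitions for the Weil representation of `Sp_{2n}(q)`, `q` odd.

* `pA v`, `pB v`: the two halves of `v : Fin n ⊕ Fin n → F`;
* `wf v v' = a·b' − a'·b`: the symplectic form (equal to `-(v ⬝ᵥ J *ᵥ v')`);
* `rho ψ v`: the Heisenberg operators of the Schroedinger model on functions on `Fin n → F`,
  `(rho ψ (a,b) f)(x) = ψ(b·x + a·b/2) f(x + a)`;
* `par`: the parity operator `f(x) ↦ f(-x)`.
-/

namespace Cfsg.Agent.WeilSp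

open Matrix

variable {F : Type*} [Field F] {n : ℕ}

/-- first half of a vector of `F^{2n}`. -/
def pA (v : Fin n ⊕ Fin n → F) : Fin n → F := fun i => v (Sum.inl i)

/-- second half of a vector of `F^{2n}`. -/
def pB (v : Fin n ⊕ Fin n → F) : Fin n → F := fun i => v (Sum.inr i)

/-- the symplectic form `a·b' − a'·b`. -/
def wf (v v' : Fin n ⊕ Fin n → F) : F := pA v ⬝ᵥ pB v' - pA v' ⬝ᵥ pB v

@[simp] theorem pA_add (v v' : Fin n ⊕ Fin n → F) : pA (v + v') = pA v + pA v' := rfl
@[simp] theorem pB_add (v v' : Fin n ⊕ Fin n → F) : pB (v + v') = pB v + pB v' := rfl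
@[simp] theorem pA_zero : pA (0 : Fin n ⊕ Fin n → F) = 0 := rfl
@[simp] theorem pB_zero : pB (0 : Fin n ⊕ Fin n → F) = 0 := rfl
@[simp] theorem pA_neg (v : Fin n ⊕ Fin n → F) : pA (-v) = -pA v := rfl
@[simp] theorem pB_neg (v : Fin n ⊕ Fin n → F) : pB (-v) = -pB v := rfl

theorem eq_of_pA_pB {v v' : Fin n ⊕ Fin n → F} (hA : pA v = pA v') (hB : pB v = pB v') : v = v' := by
  funext i
  rcases i with i | i
  · exact congrFun hA i
  · exact congrFun hB i

variable [DecidableEq F]

/-- Heisenberg operators (Schroedinger model). -/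
noncomputable def rho (ψ : AddChar F ℂ) (v : Fin n ⊕ Fin n → F) :
    Matrix (Fin n → F) (Fin n → F) ℂ :=
  Matrix.of fun x y => if y = x + pA v then ψ (pB v ⬝ᵥ x + (pA v ⬝ᵥ pB v) / 2) else 0

/-- the parity operator. -/
def par (F : Type*) [Field F] [DecidableEq F] (n : ℕ) : Matrix (Fin n → F) (Fin n → F) ℂ :=
  Matrix.of fun x y => if y = -x then 1 else 0

theorem rho_apply (ψ : AddChar F ℂ) (v : Fin n ⊕ Fin n → F) (x y : Fin n → F) :
    rho ψ v x y = if y = x + pA v then ψ (pB v ⬝ᵥ x + (pA v ⬝ᵥ pB v) / 2) else 0 := rfl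

theorem par_apply (x y : Fin n → F) : par F n x y = if y = -x then 1 else 0 := rfl

end Cfsg.Agent.WeilSp
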