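import Mathlib
import Cfsg.Agent.WeilSp.Base

set_option autoImplicit false

/-!
WeilSp / S2347 (helper2), piece P2: the algebra of the Heisenberg operators `rho ψ v`.
-/

namespace Cfsg.Agent.WeilSp

open Matrix

variable {F : Type*} [Field F] [Fintype F] [DecidableEq F] {n : ℕ}

/-- the additive map `x ↦ b ⬝ᵥ x`. -/
def h2_dotHom (b : Fin n → F) : (Fin n → F) →+ F where
  toFun x := b ⬝ᵥ x
  map_zero' := dotProduct_zero b
  map_add' := dotProduct_add b

/-- orthogonality: `Σ_x ψ(b·x) = N [b = 0]`. -/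
theorem h2_sum_dot (ψ : AddChar F ℂ) (hψ : ψ ≠ 1) (b : Fin n → F) :
    ∑ x : Fin n → F, ψ (b ⬝ᵥ x) = if b = 0 then ((Fintype.card F : ℂ) ^ n) else 0 := by
  split_ifs with hb
  · subst hb
    simp only [zero_dotProduct, AddChar.map_zero_eq_one, Finset.sum_const, Finset.card_univ,
      nsmul_eq_mul, mul_one]
    rw [Fintype.card_fun, Fintype.card_fin]
    push_cast
    rfl
  · obtain ⟨i, hi⟩ := Function.ne_iff.mp hb
    obtain ⟨t, ht⟩ := AddChar.ne_one_iff.1 hψ
    have hχ : ψ.compAddMonoidHom (h2_dotHom b) ≠ 1 := by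
      rw [AddChar.ne_one_iff]
      refine ⟨Pi.single i (t / b i), ?_⟩
      rw [AddChar.compAddMonoidHom_apply]
      show ψ (b ⬝ᵥ Pi.single i (t / b i)) ≠ 1
      rw [dotProduct_single]
      have : b i * (t / b i) = t := by
        have h0 : b i ≠ 0 := hi
        field_simp
      rw [this]
      exact ht
    exact AddChar.sum_eq_zero_of_ne_one hχ

theorem h2_sum_dot' (ψ : AddChar F ℂ) (hψ : ψ ≠ 1) (c : Fin n → F) :
    ∑ b : Fin n → F, ψ (b ⬝ᵥ c) = if c = 0 then ((Fintype.card F : ℂ) ^ n) else 0 := by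
  rw [← h2_sum_dot ψ hψ c]
  exact Finset.sum_congr rfl fun b _ => by rw [dotProduct_comm]

theorem rho_zero (ψ : AddChar F ℂ) : rho ψ (0 : Fin n ⊕ Fin n → F) = 1 := by
  ext x y
  rw [rho_apply, Matrix.one_apply]
  simp only [pA_zero, pB_zero, add_zero, zero_dotProduct, zero_div, AddChar.map_zero_eq_one]
  by_cases h : x = y
  · rw [if_pos h.symm, if_pos h]
  · rw [if_neg (fun h' => h h'.symm), if_neg h]

theorem rho_mul (h2 : (2 : F) ≠ 0) (ψ : AddChar F ℂ) (v v' : Fin n ⊕ Fin n → F) :
    rho ψ v * rho ψ v' = ψ (wf v v' / 2) • rho ψ (v + v') := by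
  ext x z
  rw [Matrix.mul_apply, Matrix.smul_apply, smul_eq_mul]
  rw [Finset.sum_eq_single (x + pA v)]
  · rw [rho_apply, rho_apply, rho_apply, if_pos rfl, pA_add, pB_add]
    by_cases hz : z = x + pA v + pA v'
    · rw [if_pos hz, if_pos (by rw [hz, add_assoc]), ← AddChar.map_add_eq_mul,
        ← AddChar.map_add_eq_mul]
      congr 1
      unfold wf
      simp only [dotProduct_add, add_dotProduct]
      rw [dotProduct_comm (pB v') (pA v), dotProduct_comm (pB v') x, dotProduct_comm (pB v) x,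
        dotProduct_comm (pA v') (pB v)]
      field_simp
      ring
    · rw [if_neg hz, if_neg (by rw [← add_assoc]; exact hz), mul_zero, mul_zero]
  · intro y _ hy
    rw [rho_apply, if_neg hy, zero_mul]
  · intro h
    exact absurd (Finset.mem_univ _) h

theorem wf_self (v : Fin n ⊕ Fin n → F) : wf v v = 0 := by
  unfold wf
  exact sub_self _

theorem wf_neg_right (v v' : Fin n ⊕ Fin n → F) : wf v (-v') = -wf v v' := by
  unfold wf
  simp only [pA_neg, pB_neg, dotProduct_neg, neg_dotProduct]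
  ring

theorem rho_mul_neg (h2 : (2 : F) ≠ 0) (ψ : AddChar F ℂ) (v : Fin n ⊕ Fin n → F) :
    rho ψ v * rho ψ (-v) = 1 := by
  rw [rho_mul h2, wf_neg_right, wf_self, neg_zero, zero_div, AddChar.map_zero_eq_one, one_smul,
    add_neg_cancel, rho_zero]

theorem rho_neg_mul (h2 : (2 : F) ≠ 0) (ψ : AddChar F ℂ) (v : Fin n ⊕ Fin n → F) :
    rho ψ (-v) * rho ψ v = 1 := by
  have := rho_mul_neg h2 ψ (-v)
  rwa [neg_neg] at this

theorem rho_trace (ψ : AddChar F ℂ) (hψ : ψ ≠ 1) (v : Fin n ⊕ Fin n → F) :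
    (rho ψ v).trace = if v = 0 then ((Fintype.card F : ℂ) ^ n) else 0 := by
  unfold Matrix.trace
  simp only [Matrix.diag_apply, rho_apply]
  by_cases hA : pA v = 0
  · have h1 : ∀ x : Fin n → F, (if x = x + pA v then ψ (pB v ⬝ᵥ x + pA v ⬝ᵥ pB v / 2) else 0)
        = ψ (pB v ⬝ᵥ x) := by
      intro x
      rw [hA, add_zero, if_pos rfl, zero_dotProduct, zero_div, add_zero]
    rw [Finset.sum_congr rfl fun x _ => h1 x, h2_sum_dot ψ hψ]
    by_cases hB : pB v = 0
    · rw [if_pos hB, if_pos (eq_of_pA_pB (by rw [hA]; rfl) (by rw [hB]; rfl))]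
    · rw [if_neg hB, if_neg]
      intro hv
      apply hB
      rw [hv]
      rfl
  · have h1 : ∀ x : Fin n → F, (if x = x + pA v then ψ (pB v ⬝ᵥ x + pA v ⬝ᵥ pB v / 2) else 0)
        = 0 := by
      intro x
      rw [if_neg]
      intro h
      apply hA
      exact (left_eq_add.mp h)
    rw [Finset.sum_congr rfl fun x _ => h1 x, Finset.sum_const_zero, if_neg]
    intro hv
    apply hA
    rw [hv]
    rfl

theorem rho_linearIndependent (h2 : (2 : F) ≠ 0) (ψ : AddChar F ℂ) (hψ : ψ ≠ 1) :
    LinearIndependent ℂ (rho ψ : (Fin n ⊕ Fin n → F) → Matrix (Fin n → F) (Fin n → F) ℂ) := by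
  rw [Fintype.linearIndependent_iff]
  intro c hc u
  have h1 : (∑ v, c v • rho ψ v) * rho ψ (-u) = 0 := by rw [hc, zero_mul]
  rw [Finset.sum_mul] at h1
  have h3 := congrArg Matrix.trace h1
  rw [Matrix.trace_sum, Matrix.trace_zero] at h3
  rw [Finset.sum_eq_single u] at h3
  · rw [smul_mul_assoc, rho_mul_neg h2, Matrix.trace_smul, Matrix.trace_one, smul_eq_mul] at h3
    have hN : (Fintype.card (Fin n → F) : ℂ) ≠ 0 := Nat.cast_ne_zero.mpr Fintype.card_ne_zero
    exact (mul_eq_zero.mp h3).resolve_right hN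
  · intro v _ hv
    rw [smul_mul_assoc, rho_mul h2, Matrix.trace_smul, Matrix.trace_smul, rho_trace ψ hψ, if_neg,
      smul_zero, smul_zero]
    intro h
    apply hv
    exact (add_neg_eq_zero.mp h)
  · intro h
    exact absurd (Finset.mem_univ _) h

theorem rho_span (h2 : (2 : F) ≠ 0) (ψ : AddChar F ℂ) (hψ : ψ ≠ 1) :
    Submodule.span ℂ (Set.range
      (rho ψ : (Fin n ⊕ Fin n → F) → Matrix (Fin n → F) (Fin n → F) ℂ)) = ⊤ := by
  apply LinearIndependent.span_eq_top_of_card_eq_finrank' (rho_linearIndependent h2 ψ hψ)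
  rw [Module.finrank_matrix, Module.finrank_self, mul_one, Fintype.card_fun, Fintype.card_fun,
    Fintype.card_sum, Fintype.card_fin, pow_add]

theorem par_mul_apply (M : Matrix (Fin n → F) (Fin n → F) ℂ) (x y : Fin n → F) :
    (par F n * M) x y = M (-x) y := by
  rw [Matrix.mul_apply, Finset.sum_eq_single (-x)]
  · rw [par_apply, if_pos rfl, one_mul]
  · intro w _ hw
    rw [par_apply, if_neg hw, zero_mul]
  · intro h
    exact absurd (Finset.mem_univ _) h

theorem mul_par_apply (M : Matrix (Fin n → F) (Fin n → F) ℂ) (x y : Fin n → F) :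
    (M * par F n) x y = M x (-y) := by
  rw [Matrix.mul_apply, Finset.sum_eq_single (-y)]
  · rw [par_apply, if_pos (neg_neg y).symm, mul_one]
  · intro w _ hw
    rw [par_apply, if_neg, mul_zero]
    intro h
    apply hw
    rw [h, neg_neg]
  · intro h
    exact absurd (Finset.mem_univ _) h

theorem par_mul_par : par F n * par F n = 1 := by
  ext x y
  rw [par_mul_apply, par_apply, Matrix.one_apply, neg_neg]
  by_cases h : x = y
  · rw [if_pos h.symm, if_pos h]
  · rw [if_neg (fun h' => h h'.symm), if_neg h]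

theorem par_mul_rho_mul_par (ψ : AddChar F ℂ) (v : Fin n ⊕ Fin n → F) :
    par F n * rho ψ v * par F n = rho ψ (-v) := by
  ext x z
  rw [mul_par_apply, par_mul_apply, rho_apply, rho_apply, pA_neg, pB_neg]
  have hiff : (-z = -x + pA v) ↔ (z = x + -pA v) := by
    constructor
    · intro h
      have := congrArg Neg.neg h
      rw [neg_neg, neg_add, neg_neg] at this
      exact this
    · intro h
      rw [h, neg_add, neg_neg]
  by_cases h : z = x + -pA v
  · rw [if_pos h, if_pos (hiff.mpr h)]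
    congr 1
    simp only [dotProduct_neg, neg_dotProduct, neg_neg]
  · rw [if_neg h, if_neg (fun h' => h (hiff.mp h'))]

theorem par_trace (h2 : (2 : F) ≠ 0) : (par F n).trace = 1 := by
  unfold Matrix.trace
  simp only [Matrix.diag_apply, par_apply]
  rw [Finset.sum_eq_single (0 : Fin n → F)]
  · rw [if_pos neg_zero.symm]
  · intro x _ hx
    rw [if_neg]
    intro h
    apply hx
    funext i
    have h1 : x i = -x i := congrFun h i
    have h3 : (2 : F) * x i = 0 := by
      rw [two_mul]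
      nth_rewrite 1 [h1]
      exact neg_add_cancel _
    exact (mul_eq_zero.mp h3).resolve_left h2
  · intro h
    exact absurd (Finset.mem_univ _) h

/-- the two halves as an equivalence. -/
def h2_split (F : Type*) (n : ℕ) : (Fin n ⊕ Fin n → F) ≃ (Fin n → F) × (Fin n → F) :=
  Equiv.sumArrowEquivProdArrow (Fin n) (Fin n) F

theorem h2_split_apply (v : Fin n ⊕ Fin n → F) : h2_split F n v = (pA v, pB v) := rfl

theorem rho_sum (h2 : (2 : F) ≠ 0) (ψ : AddChar F ℂ) (hψ : ψ ≠ 1) :
    ∑ v : Fin n ⊕ Fin n → F, rho ψ v = ((Fintype.card F : ℂ) ^ n) • par F n := by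
  ext x y
  rw [Matrix.sum_apply, Matrix.smul_apply, smul_eq_mul, par_apply]
  simp only [rho_apply]
  rw [← Equiv.sum_comp (h2_split F n).symm
    (fun v => if y = x + pA v then ψ (pB v ⬝ᵥ x + pA v ⬝ᵥ pB v / 2) else 0)]
  rw [Fintype.sum_prod_type]
  have hA : ∀ a b : Fin n → F, pA ((h2_split F n).symm (a, b)) = a := fun a b => rfl
  have hB : ∀ a b : Fin n → F, pB ((h2_split F n).symm (a, b)) = b := fun a b => rfl
  simp only [hA, hB]
  rw [Finset.sum_eq_single (y - x)]
  · have hyx : y = x + (y - x) := by abel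
    have h1 : ∀ b : Fin n → F, (if y = x + (y - x) then ψ (b ⬝ᵥ x + (y - x) ⬝ᵥ b / 2) else 0)
        = ψ (b ⬝ᵥ ((2 : F)⁻¹ • (x + y))) := by
      intro b
      rw [if_pos hyx]
      congr 1
      rw [dotProduct_smul, dotProduct_add, dotProduct_comm (y - x) b, dotProduct_sub, smul_eq_mul]
      field_simp
      ring
    rw [Finset.sum_congr rfl fun b _ => h1 b, h2_sum_dot' ψ hψ]
    have hiff : ((2 : F)⁻¹ • (x + y) = 0) ↔ (y = -x) := by
      rw [smul_eq_zero]
      constructor
      · rintro (h | h)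
        · exact absurd (inv_eq_zero.mp h) h2
        · exact (neg_eq_of_add_eq_zero_right h).symm
      · intro h
        right
        rw [h, add_neg_cancel]
    by_cases h : y = -x
    · rw [if_pos h, if_pos (hiff.mpr h), mul_one]
    · rw [if_neg h, if_neg (fun h' => h (hiff.mp h')), mul_zero]
  · intro a _ ha
    apply Finset.sum_eq_zero
    intro b _
    rw [if_neg]
    intro h
    apply ha
    rw [h]
    abel
  · intro h
    exact absurd (Finset.mem_univ _) h

end Cfsg.Agent.WeilSp
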