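import Mathlib
import Cfsg.Agent.WeilSp.Base
import Cfsg.Agent.WeilSp.H2_HeisAlg
import Cfsg.Agent.Helper7.CeN

set_option autoImplicit false

/-!
WeilSp / S2347 (helper2), piece P4: the symplectic group acts on the Heisenberg operators by algebra
automorphisms, these are inner (Skolem–Noether, taken as a hypothesis here), and the resulting
central extension of `Sp_{2n}(q)` splits by helper7's `sp_split`: the Weil representation.
-/

namespace Cfsg.Agent.WeilSp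

open Matrix

variable {F : Type*} [Field F] [Fintype F] [DecidableEq F] {n : ℕ}

omit [Fintype F] [DecidableEq F] in
theorem wf_eq (v v' : Fin n ⊕ Fin n → F) : wf v v' = -(v ⬝ᵥ (J (Fin n) F *ᵥ v')) := by
  unfold wf pA pB
  simp only [dotProduct, mulVec, J, Fintype.sum_sum_type, fromBlocks_apply₁₁, fromBlocks_apply₁₂,
    fromBlocks_apply₂₁, fromBlocks_apply₂₂, Matrix.zero_apply, Matrix.neg_apply, Matrix.one_apply]
  simp only [zero_mul, Finset.sum_const_zero, zero_add, add_zero, neg_mul, ite_mul, one_mul,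
    Finset.sum_neg_distrib, Finset.sum_ite_eq, Finset.mem_univ, if_true, mul_neg]
  rw [neg_add, neg_neg, sub_eq_add_neg]
  congr 1
  congr 1
  apply Finset.sum_congr rfl
  intro i _
  ring

omit [Fintype F] [DecidableEq F] in
theorem wf_mulVec (g : Matrix (Fin n ⊕ Fin n) (Fin n ⊕ Fin n) F)
    (hg : g ∈ symplecticGroup (Fin n) F) (v v' : Fin n ⊕ Fin n → F) :
    wf (g *ᵥ v) (g *ᵥ v') = wf v v' := by
  rw [wf_eq, wf_eq]
  congr 1
  have h1 : ∀ w : Fin n ⊕ Fin n → F, (g *ᵥ v) ⬝ᵥ w = v ⬝ᵥ (gᵀ *ᵥ w) := by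
    intro w
    rw [dotProduct_mulVec, vecMul_transpose]
  rw [h1, mulVec_mulVec, mulVec_mulVec, SymplecticGroup.mem_iff'.mp hg]

/-- the basis of Heisenberg operators. -/
noncomputable def h2_basis (h2 : (2 : F) ≠ 0) (ψ : AddChar F ℂ) (hψ : ψ ≠ 1) :
    Module.Basis (Fin n ⊕ Fin n → F) ℂ (Matrix (Fin n → F) (Fin n → F) ℂ) :=
  Module.Basis.mk (rho_linearIndependent h2 ψ hψ) (rho_span h2 ψ hψ).ge

theorem h2_basis_apply (h2 : (2 : F) ≠ 0) (ψ : AddChar F ℂ) (hψ : ψ ≠ 1) (v : Fin n ⊕ Fin n → F) :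
    h2_basis h2 ψ hψ v = rho ψ v := by
  unfold h2_basis
  rw [Module.Basis.mk_apply]

/-- the linear map `rho v ↦ rho (g v)`. -/
noncomputable def h2_PhiLin (h2 : (2 : F) ≠ 0) (ψ : AddChar F ℂ) (hψ : ψ ≠ 1)
    (g : Matrix (Fin n ⊕ Fin n) (Fin n ⊕ Fin n) F) :
    Matrix (Fin n → F) (Fin n → F) ℂ →ₗ[ℂ] Matrix (Fin n → F) (Fin n → F) ℂ :=
  (h2_basis h2 ψ hψ).constr ℂ (fun v => rho ψ (g *ᵥ v))

theorem h2_PhiLin_rho (h2 : (2 : F) ≠ 0) (ψ : AddChar F ℂ) (hψ : ψ ≠ 1)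
    (g : Matrix (Fin n ⊕ Fin n) (Fin n ⊕ Fin n) F) (v : Fin n ⊕ Fin n → F) :
    h2_PhiLin h2 ψ hψ g (rho ψ v) = rho ψ (g *ᵥ v) := by
  unfold h2_PhiLin
  rw [← h2_basis_apply h2 ψ hψ v, Module.Basis.constr_basis]

theorem h2_PhiLin_mul_rho (h2 : (2 : F) ≠ 0) (ψ : AddChar F ℂ) (hψ : ψ ≠ 1)
    (g : Matrix (Fin n ⊕ Fin n) (Fin n ⊕ Fin n) F) (hg : g ∈ symplecticGroup (Fin n) F)
    (v v' : Fin n ⊕ Fin n → F) :
    h2_PhiLin h2 ψ hψ g (rho ψ v * rho ψ v')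
      = h2_PhiLin h2 ψ hψ g (rho ψ v) * h2_PhiLin h2 ψ hψ g (rho ψ v') := by
  rw [rho_mul h2, map_smul, h2_PhiLin_rho, h2_PhiLin_rho, h2_PhiLin_rho, rho_mul h2,
    wf_mulVec g hg, mulVec_add]

theorem h2_PhiLin_mul (h2 : (2 : F) ≠ 0) (ψ : AddChar F ℂ) (hψ : ψ ≠ 1)
    (g : Matrix (Fin n ⊕ Fin n) (Fin n ⊕ Fin n) F) (hg : g ∈ symplecticGroup (Fin n) F)
    (X Y : Matrix (Fin n → F) (Fin n → F) ℂ) :
    h2_PhiLin h2 ψ hψ g (X * Y) = h2_PhiLin h2 ψ hψ g X * h2_PhiLin h2 ψ hψ g Y := by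
  have h1 : ∀ (v : Fin n ⊕ Fin n → F) (Y : Matrix (Fin n → F) (Fin n → F) ℂ),
      h2_PhiLin h2 ψ hψ g (rho ψ v * Y)
        = h2_PhiLin h2 ψ hψ g (rho ψ v) * h2_PhiLin h2 ψ hψ g Y := by
    intro v Y
    have : (h2_PhiLin h2 ψ hψ g) ∘ₗ (LinearMap.mulLeft ℂ (rho ψ v))
        = (LinearMap.mulLeft ℂ (h2_PhiLin h2 ψ hψ g (rho ψ v))) ∘ₗ (h2_PhiLin h2 ψ hψ g) := by
      apply (h2_basis h2 ψ hψ).ext
      intro v'
      rw [h2_basis_apply]
      simp only [LinearMap.comp_apply, LinearMap.mulLeft_apply]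
      exact h2_PhiLin_mul_rho h2 ψ hψ g hg v v'
    have h := congrArg (fun f => f Y) this
    simpa only [LinearMap.comp_apply, LinearMap.mulLeft_apply] using h
  have : (h2_PhiLin h2 ψ hψ g) ∘ₗ (LinearMap.mulRight ℂ Y)
      = (LinearMap.mulRight ℂ (h2_PhiLin h2 ψ hψ g Y)) ∘ₗ (h2_PhiLin h2 ψ hψ g) := by
    apply (h2_basis h2 ψ hψ).ext
    intro v
    rw [h2_basis_apply]
    simp only [LinearMap.comp_apply, LinearMap.mulRight_apply]
    exact h1 v Y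
  have h := congrArg (fun f => f X) this
  simpa only [LinearMap.comp_apply, LinearMap.mulRight_apply] using h

theorem h2_PhiLin_one (h2 : (2 : F) ≠ 0) (ψ : AddChar F ℂ) (hψ : ψ ≠ 1)
    (g : Matrix (Fin n ⊕ Fin n) (Fin n ⊕ Fin n) F) :
    h2_PhiLin h2 ψ hψ g 1 = 1 := by
  rw [← rho_zero ψ, h2_PhiLin_rho, mulVec_zero]

/-- the algebra endomorphism `rho v ↦ rho (g v)` of the full matrix algebra. -/
noncomputable def h2_Phi (h2 : (2 : F) ≠ 0) (ψ : AddChar F ℂ) (hψ : ψ ≠ 1)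
    (g : Matrix (Fin n ⊕ Fin n) (Fin n ⊕ Fin n) F) (hg : g ∈ symplecticGroup (Fin n) F) :
    Matrix (Fin n → F) (Fin n → F) ℂ →ₐ[ℂ] Matrix (Fin n → F) (Fin n → F) ℂ :=
  AlgHom.ofLinearMap (h2_PhiLin h2 ψ hψ g) (h2_PhiLin_one h2 ψ hψ g) (h2_PhiLin_mul h2 ψ hψ g hg)

theorem h2_Phi_rho (h2 : (2 : F) ≠ 0) (ψ : AddChar F ℂ) (hψ : ψ ≠ 1)
    (g : Matrix (Fin n ⊕ Fin n) (Fin n ⊕ Fin n) F) (hg : g ∈ symplecticGroup (Fin n) F)
    (v : Fin n ⊕ Fin n → F) :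
    h2_Phi h2 ψ hψ g hg (rho ψ v) = rho ψ (g *ᵥ v) :=
  h2_PhiLin_rho h2 ψ hψ g v

/-- a matrix commuting with all Heisenberg operators commutes with everything. -/
theorem h2_commute_all (h2 : (2 : F) ≠ 0) (ψ : AddChar F ℂ) (hψ : ψ ≠ 1)
    (M : Matrix (Fin n → F) (Fin n → F) ℂ) (hM : ∀ v, M * rho ψ v = rho ψ v * M)
    (X : Matrix (Fin n → F) (Fin n → F) ℂ) : M * X = X * M := by
  have hX : X ∈ Submodule.span ℂ (Set.range
      (rho ψ : (Fin n ⊕ Fin n → F) → Matrix (Fin n → F) (Fin n → F) ℂ)) := by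
    rw [rho_span h2 ψ hψ]
    exact Submodule.mem_top
  induction hX using Submodule.span_induction with
  | mem x hx =>
    obtain ⟨v, rfl⟩ := hx
    exact hM v
  | zero => rw [mul_zero, zero_mul]
  | add x y _ _ hx hy => rw [mul_add, add_mul, hx, hy]
  | smul a x _ hx => rw [mul_smul_comm, smul_mul_assoc, hx]

/-- the group of pairs `(g, M)` with `M ρ(v) = ρ(g v) M`. -/
def h2_E (ψ : AddChar F ℂ) :
    Subgroup (↥(symplecticGroup (Fin n) F) × GL (Fin n → F) ℂ) where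
  carrier := {p | ∀ v, (p.2 : Matrix (Fin n → F) (Fin n → F) ℂ) * rho ψ v
      = rho ψ ((p.1 : Matrix (Fin n ⊕ Fin n) (Fin n ⊕ Fin n) F) *ᵥ v)
        * (p.2 : Matrix (Fin n → F) (Fin n → F) ℂ)}
  one_mem' := by
    intro v
    simp
  mul_mem' := by
    intro p p' hp hp' v
    rw [Prod.snd_mul, Prod.fst_mul, Units.val_mul, Submonoid.coe_mul, Matrix.mul_assoc, hp' v,
      ← Matrix.mul_assoc, hp, Matrix.mul_assoc, mulVec_mulVec]
  inv_mem' := by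
    intro p hp v
    have h1 := hp (((p.1⁻¹ : ↥(symplecticGroup (Fin n) F)) :
      Matrix (Fin n ⊕ Fin n) (Fin n ⊕ Fin n) F) *ᵥ v)
    rw [mulVec_mulVec, ← Submonoid.coe_mul, mul_inv_cancel, Submonoid.coe_one, one_mulVec] at h1
    rw [Prod.snd_inv, Prod.fst_inv]
    calc ((p.2⁻¹ : GL (Fin n → F) ℂ) : Matrix (Fin n → F) (Fin n → F) ℂ) * rho ψ v
        = ((p.2⁻¹ : GL (Fin n → F) ℂ) : Matrix (Fin n → F) (Fin n → F) ℂ) * (rho ψ v
          * (p.2 : Matrix (Fin n → F) (Fin n → F) ℂ))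
          * ((p.2⁻¹ : GL (Fin n → F) ℂ) : Matrix (Fin n → F) (Fin n → F) ℂ) := by
          rw [Matrix.mul_assoc, Matrix.mul_assoc, ← Units.val_mul, mul_inv_cancel, Units.val_one,
            Matrix.mul_one]
      _ = rho ψ (((p.1⁻¹ : ↥(symplecticGroup (Fin n) F)) :
            Matrix (Fin n ⊕ Fin n) (Fin n ⊕ Fin n) F) *ᵥ v)
          * ((p.2⁻¹ : GL (Fin n → F) ℂ) : Matrix (Fin n → F) (Fin n → F) ℂ) := by
          rw [← h1, ← Matrix.mul_assoc, ← Units.val_mul, inv_mul_cancel,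
            Units.val_one, Matrix.one_mul]

theorem h2_mem_E (ψ : AddChar F ℂ) (p : ↥(symplecticGroup (Fin n) F) × GL (Fin n → F) ℂ) :
    p ∈ h2_E ψ ↔ ∀ v, (p.2 : Matrix (Fin n → F) (Fin n → F) ℂ) * rho ψ v
      = rho ψ ((p.1 : Matrix (Fin n ⊕ Fin n) (Fin n ⊕ Fin n) F) *ᵥ v)
        * (p.2 : Matrix (Fin n → F) (Fin n → F) ℂ) := Iff.rfl

/-- the projection of `h2_E` to the symplectic group. -/
def h2_proj (ψ : AddChar F ℂ) : ↥(h2_E (n := n) ψ) →* ↥(symplecticGroup (Fin n) F) :=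
  (MonoidHom.fst _ _).comp (h2_E ψ).subtype

theorem h2_proj_apply (ψ : AddChar F ℂ) (p : ↥(h2_E (n := n) ψ)) : h2_proj ψ p = p.1.1 := rfl

/-- **the Weil representation** of `Sp_{2n}(q)`, `q` odd, `n ≥ 2`, given Skolem–Noether. -/
theorem exists_weil_of_sn (hn : 2 ≤ n) (h2 : (2 : F) ≠ 0) (ψ : AddChar F ℂ) (hψ : ψ ≠ 1)
    (hSN : ∀ Φ : Matrix (Fin n → F) (Fin n → F) ℂ →ₐ[ℂ] Matrix (Fin n → F) (Fin n → F) ℂ,
      ∃ M : Matrix (Fin n → F) (Fin n → F) ℂ, IsUnit M.det ∧ ∀ X, Φ X * M = M * X) :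
    ∃ ω : ↥(symplecticGroup (Fin n) F) →* GL (Fin n → F) ℂ, ∀ g v,
      (ω g : Matrix (Fin n → F) (Fin n → F) ℂ) * rho ψ v
        = rho ψ ((g : Matrix (Fin n ⊕ Fin n) (Fin n ⊕ Fin n) F) *ᵥ v)
          * (ω g : Matrix (Fin n → F) (Fin n → F) ℂ) := by
  -- surjectivity
  have hsurj : Function.Surjective (h2_proj (n := n) ψ) := by
    intro g
    obtain ⟨M, hM, hΦ⟩ := hSN (h2_Phi h2 ψ hψ g.1 g.2)
    let M' : GL (Fin n → F) ℂ := Matrix.GeneralLinearGroup.mk'' M hM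
    have hM' : (M' : Matrix (Fin n → F) (Fin n → F) ℂ) = M := rfl
    refine ⟨⟨(g, M'), ?_⟩, rfl⟩
    rw [h2_mem_E]
    intro v
    show (M' : Matrix (Fin n → F) (Fin n → F) ℂ) * rho ψ v = rho ψ (g.1 *ᵥ v) * (M' : Matrix _ _ ℂ)
    rw [hM', ← hΦ, h2_Phi_rho]
  -- the kernel is central
  have hker : (h2_proj (n := n) ψ).ker ≤ Subgroup.center ↥(h2_E (n := n) ψ) := by
    intro p hp
    rw [MonoidHom.mem_ker, h2_proj_apply] at hp
    have hp2 := (h2_mem_E ψ p.1).mp p.2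
    have hcomm : ∀ X : Matrix (Fin n → F) (Fin n → F) ℂ,
        (p.1.2 : Matrix (Fin n → F) (Fin n → F) ℂ) * X = X * (p.1.2 : Matrix _ _ ℂ) := by
      apply h2_commute_all h2 ψ hψ
      intro v
      have := hp2 v
      rw [hp, Submonoid.coe_one, one_mulVec] at this
      exact this
    rw [Subgroup.mem_center_iff]
    intro p'
    apply Subtype.ext
    apply Prod.ext
    · show p'.1.1 * p.1.1 = p.1.1 * p'.1.1
      rw [hp, mul_one, one_mul]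
    · show p'.1.2 * p.1.2 = p.1.2 * p'.1.2
      apply Units.ext
      rw [Units.val_mul, Units.val_mul]
      exact (hcomm _).symm
  have hodd3 : 3 ≤ Fintype.card F := by
    by_contra hlt
    have h2' : Fintype.card F = 2 := by
      have := Fintype.one_lt_card (α := F)
      omega
    apply h2
    have : ((Fintype.card F : ℕ) : F) = 0 := Nat.cast_card_eq_zero F
    rw [h2'] at this
    exact_mod_cast this
  obtain ⟨τ, hτ⟩ := Cfsg.Agent.Helper7.Cd.sp_split (K := F) (m := n) hn (fun _ => hodd3)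
    (fun h => by omega) (h2_proj (n := n) ψ) hsurj hker
  refine ⟨(MonoidHom.snd _ _).comp ((h2_E ψ).subtype.comp τ), ?_⟩
  intro g v
  have h1 : (τ g).1.1 = g := by
    have := congrArg (fun f => f g) hτ
    exact this
  have h3 := (h2_mem_E ψ (τ g).1).mp (τ g).2 v
  rw [h1] at h3
  exact h3

end Cfsg.Agent.WeilSp
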