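import Mathlib
import Cfsg.Agent.WeilSp.Base

set_option autoImplicit false

/-!
WeilSp / S2347, piece P3 (helper3): the Skolem–Noether theorem for a full matrix algebra over a field, by hand:
every `K`-algebra endomorphism `Φ` of `Matrix ι ι K` is conjugation by an invertible matrix.
-/

namespace Cfsg.Agent.WeilSp

open Matrix

/-- every `K`-algebra endomorphism of a full matrix algebra is inner. -/
theorem skolem_noether {ι K : Type*} [Field K] [Fintype ι] [DecidableEq ι] [Nonempty ι]
    (Φ : Matrix ι ι K →ₐ[K] Matrix ι ι K) :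
    ∃ M : Matrix ι ι K, IsUnit M.det ∧ ∀ X, Φ X * M = M * X := by
  classical
  obtain ⟨i₀⟩ := ‹Nonempty ι›
  -- `e := Φ (E i₀ i₀)` is non-zero
  have he : Φ (Matrix.single i₀ i₀ (1 : K)) ≠ 0 := by
    intro h0
    have h1 : ∀ i, Φ (Matrix.single i i (1 : K)) = 0 := by
      intro i
      have h : Matrix.single i i (1 : K) =
          Matrix.single i i₀ (1 : K) * Matrix.single i₀ i₀ (1 : K) * Matrix.single i₀ i (1 : K) := by
        simp
      rw [h, map_mul, map_mul, h0]
      simp
    have h2 : (1 : Matrix ι ι K) = ∑ i, Matrix.single i i (1 : K) := by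
      rw [Matrix.sum_single_eq_diagonal]
      exact Matrix.diagonal_one.symm
    have h3 : Φ 1 = 0 := by
      rw [h2, map_sum]
      exact Finset.sum_eq_zero fun i _ => h1 i
    rw [map_one] at h3
    exact one_ne_zero h3
  -- a vector not killed by `e`
  obtain ⟨w, hw⟩ : ∃ w : ι → K, Φ (Matrix.single i₀ i₀ (1 : K)) *ᵥ w ≠ 0 := by
    by_contra hcon
    push Not at hcon
    apply he
    apply Matrix.mulVec_injective
    funext v
    rw [hcon v, Matrix.zero_mulVec]
  set w' : ι → K := Φ (Matrix.single i₀ i₀ (1 : K)) *ᵥ w with hw'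
  have hew' : Φ (Matrix.single i₀ i₀ (1 : K)) *ᵥ w' = w' := by
    rw [hw', Matrix.mulVec_mulVec, ← map_mul]
    simp
  set M : Matrix ι ι K := Matrix.of fun r i => (Φ (Matrix.single i i₀ (1 : K)) *ᵥ w') r with hM
  -- the key description of `M` as a linear map
  have key : ∀ u : ι → K, M *ᵥ u = Φ (Matrix.vecMulVec u (Pi.single i₀ (1 : K))) *ᵥ w' := by
    intro u
    have hu : Matrix.vecMulVec u (Pi.single i₀ (1 : K)) = ∑ k, u k • Matrix.single k i₀ (1 : K) := by
      ext r c
      simp only [Matrix.vecMulVec_apply, Matrix.sum_apply, Matrix.smul_apply, Matrix.single_apply, smul_eq_mul,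
        Pi.single_apply]
      rw [Finset.sum_eq_single r]
      · by_cases hc : c = i₀
        · simp [hc]
        · have hc' : ¬ i₀ = c := fun h => hc h.symm
          simp [hc, hc']
      · intro b _ hb
        simp [hb]
      · intro h
        exact absurd (Finset.mem_univ r) h
    rw [hu, map_sum, Matrix.sum_mulVec]
    funext r
    simp only [Matrix.mulVec, dotProduct, hM, Matrix.of_apply, Finset.sum_apply, map_smul, Matrix.smul_apply,
      smul_eq_mul]
    apply Finset.sum_congr rfl
    intro k _
    rw [Finset.sum_mul]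
    apply Finset.sum_congr rfl
    intro s _
    ring
  -- the intertwining relation
  have hcomm : ∀ X, Φ X * M = M * X := by
    intro X
    apply Matrix.mulVec_injective
    funext u
    rw [← Matrix.mulVec_mulVec, ← Matrix.mulVec_mulVec, key, key, Matrix.mulVec_mulVec, ← map_mul,
      Matrix.mul_vecMulVec]
  -- invertibility: `M` is injective on vectors
  have hker : ∀ u : ι → K, M *ᵥ u = 0 → u = 0 := by
    intro u hu
    by_contra hne
    obtain ⟨k, hk⟩ : ∃ k, u k ≠ 0 := by
      by_contra hcon
      push Not at hcon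
      exact hne (funext hcon)
    have h1 : M *ᵥ (Matrix.single i₀ k (1 : K) *ᵥ u) = 0 := by
      rw [Matrix.mulVec_mulVec, ← hcomm, ← Matrix.mulVec_mulVec, hu, Matrix.mulVec_zero]
    have h2 : Matrix.single i₀ k (1 : K) *ᵥ u = u k • (Pi.single i₀ (1 : K) : ι → K) := by
      rw [Matrix.single_mulVec_eq, one_mul]
    have h3 : M *ᵥ (u k • (Pi.single i₀ (1 : K) : ι → K)) = u k • w' := by
      rw [Matrix.mulVec_smul, key]
      have : Matrix.vecMulVec (Pi.single i₀ (1 : K) : ι → K) (Pi.single i₀ (1 : K)) =
          Matrix.single i₀ i₀ (1 : K) :=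
        (Matrix.single_eq_single_vecMulVec_single i₀ i₀).symm
      rw [this, hew']
    rw [h2, h3] at h1
    rcases smul_eq_zero.mp h1 with h | h
    · exact hk h
    · exact hw h
  refine ⟨M, ?_, hcomm⟩
  rw [← Matrix.isUnit_iff_isUnit_det, ← Matrix.mulVec_injective_iff_isUnit]
  have hinj : Function.Injective (Matrix.mulVecLin M) := by
    rw [injective_iff_map_eq_zero (Matrix.mulVecLin M)]
    intro u hu
    exact hker u hu
  exact hinj

end Cfsg.Agent.WeilSp
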