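import Mathlib
import Cfsg.Agent.WeilSp.Base

set_option autoImplicit false
set_option linter.unusedSectionVars false

/-!
WeilSp / S2347, piece P7c (helper5): the `(-1)`-eigenspace of the parity operator `par F n`
on functions on `Fin n → F` has dimension `(q ^ n - 1) / 2` for `q = |F|` odd.
-/

namespace Cfsg.Agent.WeilSp

open Matrix

variable {F : Type*} [Field F] [Fintype F] [DecidableEq F] {n : ℕ}

theorem h5_two_ne_zero (hodd : Odd (Fintype.card F)) : (2 : F) ≠ 0 := by
  apply Ring.two_ne_zero
  intro h
  have h2 := FiniteField.even_card_iff_char_two.mp h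
  rcases hodd with ⟨k, hk⟩
  omega

theorem h5_par_mul_par : par F n * par F n = 1 := by
  ext x y
  rw [Matrix.mul_apply, Matrix.one_apply]
  simp only [par_apply]
  rw [Finset.sum_eq_single (-x)]
  · by_cases hxy : x = y
    · subst hxy
      simp
    · have : ¬ y = x := fun h => hxy h.symm
      simp [hxy, this]
  · intro b _ hb
    simp [hb]
  · intro h
    exact absurd (Finset.mem_univ _) h

theorem h5_trace_par (hodd : Odd (Fintype.card F)) : Matrix.trace (par F n) = 1 := by
  have h2 := h5_two_ne_zero (F := F) hodd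
  rw [Matrix.trace]
  simp only [Matrix.diag_apply, par_apply]
  rw [Finset.sum_eq_single (0 : Fin n → F)]
  · simp
  · intro b _ hb
    have : ¬ b = -b := by
      intro h
      apply hb
      funext i
      have hi := congrFun h i
      rw [Pi.neg_apply] at hi
      have h3 : (2 : F) * b i = 0 := by
        rw [two_mul]
        nth_rewrite 2 [hi]
        exact add_neg_cancel _
      rcases mul_eq_zero.mp h3 with h4 | h4
      · exact absurd h4 h2
      · exact h4
    simp [this]
  · intro h
    exact absurd (Finset.mem_univ _) h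

/-- the idempotent `(1 - par) / 2`. -/
noncomputable def h5_e (F : Type*) [Field F] [Fintype F] [DecidableEq F] (n : ℕ) :
    Matrix (Fin n → F) (Fin n → F) ℂ := (2 : ℂ)⁻¹ • (1 - par F n)

theorem h5_isProj :
    LinearMap.IsProj (LinearMap.ker (Matrix.toLin' (par F n + 1))) (Matrix.toLin' (h5_e F n)) := by
  have hpp := h5_par_mul_par (F := F) (n := n)
  constructor
  · intro f
    rw [LinearMap.mem_ker, ← LinearMap.comp_apply, ← Matrix.toLin'_mul]
    have : (par F n + 1) * h5_e F n = 0 := by
      rw [h5_e, Matrix.mul_smul, Matrix.add_mul, Matrix.mul_sub, Matrix.mul_sub, hpp, Matrix.mul_one,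
        Matrix.one_mul, Matrix.one_mul]
      rw [show par F n - 1 + (1 - par F n) = 0 by abel, smul_zero]
    rw [this, map_zero, LinearMap.zero_apply]
  · intro f hf
    rw [LinearMap.mem_ker, Matrix.toLin'_apply, Matrix.add_mulVec, Matrix.one_mulVec] at hf
    have hf' : par F n *ᵥ f = -f := eq_neg_of_add_eq_zero_left hf
    rw [Matrix.toLin'_apply, h5_e, Matrix.smul_mulVec, Matrix.sub_mulVec, Matrix.one_mulVec, hf',
      sub_neg_eq_add, ← two_smul ℂ f, smul_smul, inv_mul_cancel₀ (two_ne_zero), one_smul]

theorem finrank_odd (hodd : Odd (Fintype.card F)) :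
    Module.finrank ℂ (LinearMap.ker (Matrix.toLin' (par F n + 1)))
      = (Fintype.card F ^ n - 1) / 2 := by
  have htr := (h5_isProj (F := F) (n := n)).trace
  rw [Matrix.trace_toLin'_eq] at htr
  have h1 : Matrix.trace (h5_e F n) = (2 : ℂ)⁻¹ * ((Fintype.card F ^ n : ℕ) - 1) := by
    rw [h5_e, Matrix.trace_smul, Matrix.trace_sub, Matrix.trace_one, h5_trace_par hodd, smul_eq_mul,
      Fintype.card_fun, Fintype.card_fin]
  rw [h1] at htr
  set d := Module.finrank ℂ (LinearMap.ker (Matrix.toLin' (par F n + 1))) with hd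
  have hN : 1 ≤ Fintype.card F ^ n := Nat.one_le_pow _ _ Fintype.card_pos
  have h3 : ((Fintype.card F ^ n - 1 : ℕ) : ℂ) = ((2 * d : ℕ) : ℂ) := by
    rw [Nat.cast_sub hN, Nat.cast_mul, ← htr]
    push_cast
    field_simp
  have h4 : Fintype.card F ^ n - 1 = 2 * d := by exact_mod_cast h3
  rw [h4]
  omega

end Cfsg.Agent.WeilSp
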