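import Mathlib
import Cfsg.Agent.WeilSp.Base
import Cfsg.Agent.Helper7.SpSubB

set_option autoImplicit false

/-! The symplectic group is transitive on the non-zero vectors (helper7; piece P5 of the
Weil representation project S2347). -/

namespace Cfsg.Agent.WeilSp

open Matrix

variable {F : Type*} [Field F] [Fintype F] [DecidableEq F] {n : ℕ}

/-- The symplectic group is transitive on the non-zero vectors. -/
theorem sp_transitive (u v : Fin n ⊕ Fin n → F) (hu : u ≠ 0) (hv : v ≠ 0) :
    ∃ g : ↥(symplecticGroup (Fin n) F),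
      (g : Matrix (Fin n ⊕ Fin n) (Fin n ⊕ Fin n) F) *ᵥ u = v := by
  obtain ⟨g, _, hg⟩ := Cfsg.Agent.Helper7.SpSub.exists_Hs_mulVec_eq (F₀ := (⊤ : Subfield F))
    (m := n) (u := u) (u' := v) (fun _ => Subfield.mem_top _) hu (fun _ => Subfield.mem_top _) hv
  exact ⟨g, hg⟩

end Cfsg.Agent.WeilSp
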