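import Mathlib
import Cfsg.Agent.WeilSp.Base
import Cfsg.Agent.WeilSp.H2_HeisAlg
import Cfsg.Agent.WeilSp.H7_SpTrans

set_option autoImplicit false
set_option linter.unusedSectionVars false

/-!
WeilSp / S2347, piece P6 (helper6): the commutant of the Weil representation is contained in
`span {1, par}`, and the parity operator commutes with the Weil representation.
-/

namespace Cfsg.Agent.WeilSp

open Matrix

variable {F : Type*} [Field F] [Fintype F] [DecidableEq F] {n : ℕ}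

/-- the permutation of `F^{2n}` given by a symplectic matrix. -/
def h6_spEquiv (g : ↥(symplecticGroup (Fin n) F)) :
    (Fin n ⊕ Fin n → F) ≃ (Fin n ⊕ Fin n → F) where
  toFun v := (g : Matrix (Fin n ⊕ Fin n) (Fin n ⊕ Fin n) F) *ᵥ v
  invFun v := ((g⁻¹ : ↥(symplecticGroup (Fin n) F)) : Matrix (Fin n ⊕ Fin n) (Fin n ⊕ Fin n) F) *ᵥ v
  left_inv v := by
    show ((g⁻¹ : ↥(symplecticGroup (Fin n) F)) : Matrix (Fin n ⊕ Fin n) (Fin n ⊕ Fin n) F) *ᵥ
      ((g : Matrix (Fin n ⊕ Fin n) (Fin n ⊕ Fin n) F) *ᵥ v) = v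
    rw [Matrix.mulVec_mulVec, ← Submonoid.coe_mul, inv_mul_cancel, Submonoid.coe_one,
      Matrix.one_mulVec]
  right_inv v := by
    show (g : Matrix (Fin n ⊕ Fin n) (Fin n ⊕ Fin n) F) *ᵥ
      (((g⁻¹ : ↥(symplecticGroup (Fin n) F)) : Matrix (Fin n ⊕ Fin n) (Fin n ⊕ Fin n) F) *ᵥ v) = v
    rw [Matrix.mulVec_mulVec, ← Submonoid.coe_mul, mul_inv_cancel, Submonoid.coe_one,
      Matrix.one_mulVec]

theorem h6_spEquiv_apply (g : ↥(symplecticGroup (Fin n) F)) (v : Fin n ⊕ Fin n → F) :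
    h6_spEquiv g v = (g : Matrix (Fin n ⊕ Fin n) (Fin n ⊕ Fin n) F) *ᵥ v := rfl

/-- conjugating a combination of Heisenberg operators by `ω g` permutes the coefficients. -/
theorem h6_conj_sum (ψ : AddChar F ℂ)
    (ω : ↥(symplecticGroup (Fin n) F) →* GL (Fin n → F) ℂ)
    (hω : ∀ g v, (ω g : Matrix (Fin n → F) (Fin n → F) ℂ) * rho ψ v =
      rho ψ ((g : Matrix (Fin n ⊕ Fin n) (Fin n ⊕ Fin n) F) *ᵥ v) *
        (ω g : Matrix (Fin n → F) (Fin n → F) ℂ))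
    (g : ↥(symplecticGroup (Fin n) F)) (t : (Fin n ⊕ Fin n → F) → ℂ) :
    (ω g : Matrix (Fin n → F) (Fin n → F) ℂ) * (∑ v, t v • rho ψ v) =
      (∑ w, t ((h6_spEquiv g).symm w) • rho ψ w) * (ω g : Matrix (Fin n → F) (Fin n → F) ℂ) := by
  rw [Finset.mul_sum, Finset.sum_mul]
  rw [← Equiv.sum_comp (h6_spEquiv g)
    (fun w => t ((h6_spEquiv g).symm w) • rho ψ w * (ω g : Matrix (Fin n → F) (Fin n → F) ℂ))]
  refine Finset.sum_congr rfl fun v _ => ?_
  rw [Equiv.symm_apply_apply, Matrix.mul_smul, hω g v, Matrix.smul_mul, h6_spEquiv_apply]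

theorem h6_omega_mul_cancel (ω : ↥(symplecticGroup (Fin n) F) →* GL (Fin n → F) ℂ)
    (g : ↥(symplecticGroup (Fin n) F)) (A B : Matrix (Fin n → F) (Fin n → F) ℂ)
    (h : A * (ω g : Matrix (Fin n → F) (Fin n → F) ℂ) =
      B * (ω g : Matrix (Fin n → F) (Fin n → F) ℂ)) : A = B := by
  have h1 := congrArg (fun M => M * ((ω g)⁻¹ : GL (Fin n → F) ℂ).1) h
  simp only [Matrix.mul_assoc] at h1
  rw [← Units.val_mul, mul_inv_cancel, Units.val_one, Matrix.mul_one, Matrix.mul_one] at h1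
  exact h1

theorem commutant_le (h2 : (2 : F) ≠ 0) (ψ : AddChar F ℂ) (hψ : ψ ≠ 1)
    (ω : ↥(symplecticGroup (Fin n) F) →* GL (Fin n → F) ℂ)
    (hω : ∀ g v, (ω g : Matrix (Fin n → F) (Fin n → F) ℂ) * rho ψ v =
      rho ψ ((g : Matrix (Fin n ⊕ Fin n) (Fin n ⊕ Fin n) F) *ᵥ v) *
        (ω g : Matrix (Fin n → F) (Fin n → F) ℂ))
    (T : Matrix (Fin n → F) (Fin n → F) ℂ)
    (hT : ∀ g, (ω g : Matrix (Fin n → F) (Fin n → F) ℂ) * T =
      T * (ω g : Matrix (Fin n → F) (Fin n → F) ℂ)) :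
    ∃ a b : ℂ, T = a • (1 : Matrix (Fin n → F) (Fin n → F) ℂ) + b • par F n := by
  -- expand `T` in the Heisenberg basis
  have hmem : T ∈ Submodule.span ℂ (Set.range
      (rho ψ : (Fin n ⊕ Fin n → F) → Matrix (Fin n → F) (Fin n → F) ℂ)) := by
    rw [rho_span h2 ψ hψ]; exact Submodule.mem_top
  obtain ⟨t, ht⟩ := (Submodule.mem_span_range_iff_exists_fun ℂ).mp hmem
  -- the coefficients are invariant
  have hinv : ∀ (g : ↥(symplecticGroup (Fin n) F)) (w : Fin n ⊕ Fin n → F),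
      t ((h6_spEquiv g).symm w) = t w := by
    intro g
    have h1 := h6_conj_sum ψ ω hω g t
    rw [ht, hT g] at h1
    have h3 := h6_omega_mul_cancel ω g _ _ h1
    rw [← ht] at h3
    have h4 : ∑ w, (t w - t ((h6_spEquiv g).symm w)) • rho ψ w = 0 := by
      simp only [sub_smul, Finset.sum_sub_distrib]
      rw [h3, sub_self]
    have h5 := (Fintype.linearIndependent_iff.mp (rho_linearIndependent h2 ψ hψ)) _ h4
    intro w
    exact (sub_eq_zero.mp (h5 w)).symm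
  have hinv' : ∀ (g : ↥(symplecticGroup (Fin n) F)) (v : Fin n ⊕ Fin n → F),
      t ((g : Matrix (Fin n ⊕ Fin n) (Fin n ⊕ Fin n) F) *ᵥ v) = t v := by
    intro g v
    have := hinv g (h6_spEquiv g v)
    rw [Equiv.symm_apply_apply] at this
    exact this.symm
  -- so constant on non-zero vectors
  obtain ⟨b, hb⟩ : ∃ b : ℂ, ∀ v : Fin n ⊕ Fin n → F, v ≠ 0 → t v = b := by
    by_cases hex : ∃ u : Fin n ⊕ Fin n → F, u ≠ 0
    · obtain ⟨u, hu⟩ := hex
      refine ⟨t u, fun v hv => ?_⟩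
      obtain ⟨g, hg⟩ := sp_transitive u v hu hv
      rw [← hg, hinv']
    · refine ⟨0, fun v hv => absurd ⟨v, hv⟩ hex⟩
  refine ⟨t 0 - b, b * (Fintype.card F : ℂ) ^ n, ?_⟩
  have hsplit : T = ∑ v, (t v - b) • rho ψ v + b • ∑ v, rho ψ v := by
    rw [Finset.smul_sum, ← Finset.sum_add_distrib, ← ht]
    refine Finset.sum_congr rfl fun v _ => ?_
    rw [sub_smul, sub_add_cancel]
  rw [hsplit, rho_sum h2 ψ hψ, smul_smul]
  congr 1
  rw [Finset.sum_eq_single (0 : Fin n ⊕ Fin n → F)]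
  · rw [rho_zero]
  · intro v _ hv
    rw [hb v hv, sub_self, zero_smul]
  · intro h
    exact absurd (Finset.mem_univ _) h

theorem par_commute (h2 : (2 : F) ≠ 0) (ψ : AddChar F ℂ) (hψ : ψ ≠ 1)
    (ω : ↥(symplecticGroup (Fin n) F) →* GL (Fin n → F) ℂ)
    (hω : ∀ g v, (ω g : Matrix (Fin n → F) (Fin n → F) ℂ) * rho ψ v =
      rho ψ ((g : Matrix (Fin n ⊕ Fin n) (Fin n ⊕ Fin n) F) *ᵥ v) *
        (ω g : Matrix (Fin n → F) (Fin n → F) ℂ))
    (g : ↥(symplecticGroup (Fin n) F)) :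
    (ω g : Matrix (Fin n → F) (Fin n → F) ℂ) * par F n =
      par F n * (ω g : Matrix (Fin n → F) (Fin n → F) ℂ) := by
  have h1 := h6_conj_sum ψ ω hω g (fun _ => (1 : ℂ))
  simp only [one_smul] at h1
  rw [rho_sum h2 ψ hψ, Matrix.mul_smul, Matrix.smul_mul] at h1
  have hN : ((Fintype.card F : ℂ) ^ n) ≠ 0 :=
    pow_ne_zero _ (Nat.cast_ne_zero.mpr Fintype.card_ne_zero)
  exact smul_right_injective _ hN h1

end Cfsg.Agent.WeilSp
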