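import Mathlib
import Cfsg.Agent.WeilSp.Base
import Cfsg.Agent.WeilSp.H2_HeisAlg
import Cfsg.Agent.WeilSp.H2_Weil
import Cfsg.Agent.WeilSp.H3_SkolemNoether
import Cfsg.Agent.WeilSp.H4_IrrComm
import Cfsg.Agent.WeilSp.H5_FinrankOdd
import Cfsg.Agent.WeilSp.H6_Commutant
import Cfsg.Agent.WeilSp.H9_ExistsIrr

set_option autoImplicit false

/-!
WeilSp / S2347 (helper2): assembly of the existence half — an irreducible representation of
`Sp_{2n}(q)`, `q` odd, `n ≥ 2`, of degree `(q^n − 1)/2` (the odd part of the Weil representation).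
-/

namespace Cfsg.Agent.WeilSp

open Matrix

variable {F : Type*} [Field F] [Fintype F] [DecidableEq F] {n : ℕ}

theorem h2_weil_exists (hn : 2 ≤ n) (hodd : Odd (Fintype.card F)) :
    ∃ ρ : Representation ℂ (Matrix.symplecticGroup (Fin n) F)
      (Fin ((Fintype.card F ^ n - 1) / 2) → ℂ), ρ.IsIrreducible := by
  classical
  have h2 : (2 : F) ≠ 0 := h5_two_ne_zero hodd
  obtain ⟨ψ, hψ1⟩ := (AddChar.exists_apply_ne_zero (α := F) (a := (1 : F))).mpr one_ne_zero
  have hψ : ψ ≠ 1 := by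
    intro h
    apply hψ1
    rw [h]
    rfl
  obtain ⟨ω, hω⟩ := exists_weil_of_sn hn h2 ψ hψ (fun Φ => skolem_noether Φ)
  -- the odd functions
  set E : Submodule ℂ ((Fin n → F) → ℂ) := LinearMap.ker (Matrix.toLin' (par F n + 1)) with hE
  have hmemE : ∀ f : (Fin n → F) → ℂ, f ∈ E ↔ par F n *ᵥ f = (-1 : ℂ) • f := by
    intro f
    rw [hE, LinearMap.mem_ker, Matrix.toLin'_apply, Matrix.add_mulVec, Matrix.one_mulVec,
      add_eq_zero_iff_eq_neg, neg_one_smul]
  have hEinv : ∀ g, ∀ f ∈ E, (ω g : Matrix (Fin n → F) (Fin n → F) ℂ) *ᵥ f ∈ E := by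
    intro g f hf
    rw [hmemE] at hf ⊢
    rw [Matrix.mulVec_mulVec, ← par_commute h2 ψ hψ ω hω g, ← Matrix.mulVec_mulVec, hf,
      Matrix.mulVec_smul]
  have hirr : ∀ U : Submodule ℂ ((Fin n → F) → ℂ), U ≤ E →
      (∀ g, ∀ f ∈ U, (ω g : Matrix (Fin n → F) (Fin n → F) ℂ) *ᵥ f ∈ U) → U = ⊥ ∨ U = E := by
    intro U hUE hU
    by_cases hU0 : U = ⊥
    · exact Or.inl hU0
    · right
      apply le_antisymm hUE
      intro f hf
      exact irr_of_commutant ω (par F n) (commutant_le h2 ψ hψ ω hω) (-1) U hU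
        (fun f hf => (hmemE f).mp (hUE hf)) hU0 f ((hmemE f).mp hf)
  have hk : Module.finrank ℂ E = (Fintype.card F ^ n - 1) / 2 := finrank_odd hodd
  have hk0 : 0 < (Fintype.card F ^ n - 1) / 2 := by
    have h3 : 3 ≤ Fintype.card F := by
      by_contra hlt
      have hc2 : Fintype.card F = 2 := by
        have := Fintype.one_lt_card (α := F)
        omega
      rw [hc2] at hodd
      exact absurd hodd (by decide)
    have h9 : 3 ^ 2 ≤ Fintype.card F ^ n :=
      le_trans (Nat.pow_le_pow_left h3 2) (Nat.pow_le_pow_right (by omega) hn)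
    omega
  exact exists_irr_rep ω E hEinv hirr _ hk hk0

end Cfsg.Agent.WeilSp
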