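import Mathlib
import Cfsg.Agent.Helper8.LSA
import Cfsg.Agent.Helper8.LSB
import Cfsg.Agent.LS3.H1_SymChar
import Cfsg.Agent.LS3.H4_NT
import Cfsg.Agent.LS3.H8_Siegel
import Cfsg.Agent.S0270

set_option autoImplicit false
set_option linter.unusedSectionVars false

/-!
WeilSp / S2347, piece P1 second half (helper5): the Landazuri–Seitz type lower bound
`(q ^ n - 1) / 2 ≤ k` for `Sp_{2n}(q)`, `q` odd — assembly, with the orbit lemma for the quadratic
forms as a hypothesis (copy of helper8's `h8_sp_even`).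
-/

namespace Cfsg.Agent.WeilSp

open Matrix Cfsg.Agent.Helper8.LS Cfsg.Agent.LS3

variable {F : Type*} [Field F] [Fintype F] [DecidableEq F] {n : ℕ}

/-- for `2 ≠ 0`, a character `χ_c` with `c + cᵀ = 0` is trivial. -/
theorem h5_symChar_eq_one_of_alt {K : Type*} [Field K] (h2 : (2 : F) ≠ 0)
    (ψ : Multiplicative F →* Kˣ) (c : Matrix (Fin n) (Fin n) F)
    (hc : c + cᵀ = 0) (a : h1_UT n → F) :
    h1_symChar ψ c (Multiplicative.ofAdd a) = 1 := by
  rw [h1_symChar, dotChar_apply]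
  have h0 : a ⬝ᵥ h1_coef c = 0 := by
    unfold dotProduct
    refine Finset.sum_eq_zero (fun p _ => ?_)
    obtain ⟨⟨i, j⟩, h⟩ := p
    simp only [h1_coef]
    by_cases hij : i = j
    · subst hij
      rw [if_pos rfl]
      have := congrFun (congrFun hc i) i
      rw [Matrix.add_apply, Matrix.transpose_apply, Matrix.zero_apply, ← two_mul] at this
      rcases mul_eq_zero.mp this with h3 | h3
      · exact absurd h3 h2
      · rw [h3, mul_zero]
    · rw [if_neg hij]
      have := congrFun (congrFun hc i) j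
      rw [Matrix.add_apply, Matrix.transpose_apply, Matrix.zero_apply] at this
      rw [this, mul_zero]
  rw [h0, ofAdd_zero, map_one]

/-- **lower bound of S2347**, given the orbit lemma for quadratic forms in odd characteristic. -/
theorem h5_sp_odd_lower_of_orbit (hn : 2 ≤ n) (hodd : Odd (Fintype.card F))
    (horb : ∀ c : Matrix (Fin n) (Fin n) F, c + cᵀ ≠ 0 →
      Fintype.card F ^ n - 1 ≤ 2 * Nat.card {g : (Fin n → F) → F //
        ∃ A : GL (Fin n) F, g = fun x => (A.1 *ᵥ x) ⬝ᵥ (c *ᵥ (A.1 *ᵥ x))})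
    (k : ℕ) (ρ : Representation ℂ (Matrix.symplecticGroup (Fin n) F) (Fin k → ℂ))
    (hirr : ρ.IsIrreducible) (hk : 2 ≤ k) : (Fintype.card F ^ n - 1) / 2 ≤ k := by
  classical
  -- the characteristic
  obtain ⟨p, hp⟩ := CharP.exists F
  obtain ⟨e, hprime, hcard⟩ := FiniteField.card F p
  have : Fact p.Prime := ⟨hprime⟩
  have h2F : (2 : F) ≠ 0 := by
    apply Ring.two_ne_zero
    intro h
    have h2 := FiniteField.even_card_iff_char_two.mp h
    rcases hodd with ⟨j, hj⟩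
    omega
  -- simplicity of `PSp`
  have hcard3 : 3 ≤ Fintype.card F := by
    have h2 : 2 ≤ Fintype.card F := Fintype.one_lt_card
    rcases hodd with ⟨j, hj⟩
    omega
  have hs : IsSimpleGroup (Cfsg.PSp n F) := Cfsg.Agent.S0270.result n hn (fun _ => hcard3)
  -- roots of unity
  have : NeZero ((p : ℕ) : ℂ) := ⟨Nat.cast_ne_zero.mpr hprime.ne_zero⟩
  have : HasEnoughRootsOfUnity ℂ p := inferInstance
  have hE1 : HasEnoughRootsOfUnity ℂ (Monoid.exponent (Multiplicative (h1_UT n → F))) :=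
    hasEnough_exponent p
  have hE2 : HasEnoughRootsOfUnity ℂ (Monoid.exponent (Multiplicative F)) :=
    hasEnough_exponent' p
  obtain ⟨ψ, hψ⟩ := exists_char_ne_one (F := F) (K := ℂ)
  -- the action of the Siegel radical
  let T : Multiplicative (h1_UT n → F) →* Module.End ℂ (Fin k → ℂ) := ρ.comp h8_uHom
  have hA : (Fintype.card (Multiplicative (h1_UT n → F)) : ℂ) ≠ 0 :=
    Nat.cast_ne_zero.mpr Fintype.card_ne_zero
  -- the element `u(E_01 + E_10)`
  let i0 : Fin n := ⟨0, by omega⟩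
  let i1 : Fin n := ⟨1, by omega⟩
  have h01 : i0 ≤ i1 := by
    show (0 : ℕ) ≤ 1
    omega
  let p01 : h1_UT n := ⟨(i0, i1), h01⟩
  let a0 : h1_UT n → F := Pi.single p01 1
  have ha0 : h1_symOf a0 ≠ 0 := by
    intro h
    have := congrFun (congrFun h i0) i1
    rw [h1_symOf_apply_le a0 h01] at this
    simp [a0, p01] at this
  have hz : T (Multiplicative.ofAdd a0) ≠ 1 := by
    show ρ (h8_uHom (Multiplicative.ofAdd a0)) ≠ 1
    rw [h8_uHom_apply]
    exact h4_nt hs ρ hirr hk (h8_uS_not_mem_center _ _ ha0)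
  obtain ⟨χ, hχne, hχ1⟩ := exists_wt_ne_bot T hA _ hz
  obtain ⟨c, rfl⟩ := h1_symChar_surjective hψ χ
  have hc : c + cᵀ ≠ 0 := by
    intro hc
    exact hχ1 (h5_symChar_eq_one_of_alt h2F ψ c hc a0)
  -- the orbit
  have hW : ∀ B : GL (Fin n) F,
      wt T (h1_symChar ψ ((B : Matrix (Fin n) (Fin n) F)ᵀ * c * (B : Matrix (Fin n) (Fin n) F))) ≠ ⊥ := by
    intro B
    have hinj : Function.Injective (ρ (h8_dA B)⁻¹) := by
      intro v w hvw
      have h1 : ρ (h8_dA B) (ρ (h8_dA B)⁻¹ v) = ρ (h8_dA B) (ρ (h8_dA B)⁻¹ w) := by rw [hvw]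
      rw [← Module.End.mul_apply, ← Module.End.mul_apply, ← map_mul, mul_inv_cancel, map_one] at h1
      exact h1
    refine wt_ne_bot_of_conj' T (ρ (h8_dA B)⁻¹) hinj _ (h1_symChar ψ c) ?_ hχne
    intro a'
    refine ⟨Multiplicative.ofAdd (h1_toSym ((B : Matrix (Fin n) (Fin n) F) * h1_symOf a'.toAdd *
      (B : Matrix (Fin n) (Fin n) F)ᵀ)), ?_, ?_⟩
    · show ρ (h8_dA B)⁻¹ * ρ (h8_uHom _) = ρ (h8_uHom a') * ρ (h8_dA B)⁻¹
      rw [← map_mul, ← map_mul]
      congr 1
      rw [inv_mul_eq_iff_eq_mul, ← mul_assoc, eq_mul_inv_iff_mul_eq]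
      have : a' = Multiplicative.ofAdd a'.toAdd := rfl
      rw [this, h8_uHom_apply, h8_uHom_apply, toAdd_ofAdd,
        h8_dA_mul_uS B _ (h1_symOf_transpose _)]
      congr 1
      exact h8_uS_congr (h1_symOf_toSym _ (h8_conj_symm _ _ (h1_symOf_transpose _))) _ _
    · have : a' = Multiplicative.ofAdd a'.toAdd := rfl
      rw [this, h1_symChar_conj, toAdd_ofAdd]
  have h1 := h1_card_forms_le T hA hψ c hW
  rw [Module.finrank_fin_fun] at h1
  have h2 := horb c hc
  apply Nat.div_le_of_le_mul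
  calc Fintype.card F ^ n - 1
      ≤ 2 * Nat.card {g : (Fin n → F) → F // ∃ A : GL (Fin n) F,
          g = fun x => (A.1 *ᵥ x) ⬝ᵥ (c *ᵥ (A.1 *ᵥ x))} := h2
    _ ≤ 2 * k := Nat.mul_le_mul_left _ h1

end Cfsg.Agent.WeilSp
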