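import Mathlib
import Cfsg.Agent.WeilSp.Base
import Cfsg.Agent.LS3.H8_QOrbA

set_option autoImplicit false
set_option linter.unusedSectionVars false

/-!
WeilSp / S2347 (helper7): the orbit count in odd characteristic.  For a quadratic form `Q` on `F^n`
(`F` finite of odd characteristic) with non-zero polar form, the `GL_n(F)`-orbit of `Q` has at least
`(q^n - 1) / 2` elements.  Pattern of helper8's `LS3/H8_QOrb.lean`.
-/

namespace Cfsg.Agent.WeilSp

open QuadraticMap Matrix Cfsg.Agent.LS3

section glcard

variable {F : Type*} [Field F] [Fintype F]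

theorem h7_card_GL_split (m : ℕ) :
    Nat.card (GL (Fin (m + 1)) F)
      = (Fintype.card F ^ (m + 1) - 1) * Fintype.card F ^ m
        * ∏ i : Fin m, (Fintype.card F ^ m - Fintype.card F ^ (i : ℕ)) := by
  rw [Matrix.card_GL_field, Fin.prod_univ_succ]
  simp only [Fin.val_zero, pow_zero, Fin.val_succ]
  have h : ∀ i : Fin m, Fintype.card F ^ (m + 1) - Fintype.card F ^ ((i : ℕ) + 1)
      = Fintype.card F * (Fintype.card F ^ m - Fintype.card F ^ (i : ℕ)) := by
    intro i
    rw [Nat.mul_sub]
    congr 1 <;> ring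
  rw [Finset.prod_congr rfl (fun i _ => h i), Finset.prod_mul_distrib, Finset.prod_const,
    Finset.card_univ, Fintype.card_fin]
  ring

end glcard

section perp

variable {F : Type*} [Field F] {V : Type*} [AddCommGroup V] [Module F V]
variable (Q : QuadraticForm F V)

/-- `x^⊥`. -/
def h7_perp (x : V) : Submodule F V := LinearMap.ker (Q.polarBilin x)

theorem h7_mem_perp (x z : V) : z ∈ h7_perp Q x ↔ polar Q x z = 0 := by
  rw [h7_perp, LinearMap.mem_ker]
  rfl

theorem h7_finrank_perp [FiniteDimensional F V] (x : V) (hx : polar Q x x ≠ 0) :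
    Module.finrank F (h7_perp Q x) + 1 = Module.finrank F V := by
  have hsurj : LinearMap.range (Q.polarBilin x) = ⊤ := by
    rw [LinearMap.range_eq_top]
    intro p
    refine ⟨(p * (polar Q x x)⁻¹) • x, ?_⟩
    show polar Q x ((p * (polar Q x x)⁻¹) • x) = p
    rw [polar_smul_right, smul_eq_mul, mul_assoc, inv_mul_cancel₀ hx, mul_one]
  have h := LinearMap.finrank_range_add_finrank_ker (Q.polarBilin x)
  rw [hsurj, finrank_top, Module.finrank_self] at h
  rw [h7_perp]
  omega

/-- the decomposition `z = z' + (B(x, z) / B(x, x)) x` with `z' ∈ x^⊥`. -/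
theorem h7_decomp (x : V) (hx : polar Q x x ≠ 0) (z : V) :
    z - (polar Q x z * (polar Q x x)⁻¹) • x ∈ h7_perp Q x := by
  rw [h7_mem_perp, polar_sub_right, polar_smul_right, smul_eq_mul, mul_assoc, inv_mul_cancel₀ hx,
    mul_one, sub_self]

theorem h7_Q_add_of_perp (x w : V) (hw : w ∈ h7_perp Q x) (t : F) :
    Q (t • x + w) = t * t * Q x + Q w := by
  have h1 : Q (t • x + w) = Q (t • x) + Q w + polar Q (t • x) w := by
    unfold polar
    ring
  rw [h1, polar_smul_left, (h7_mem_perp Q x w).mp hw, smul_zero, add_zero, QuadraticMap.map_smul,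
    smul_eq_mul]

end perp

section level

variable {F : Type*} [Field F] [Fintype F] {V : Type*} [AddCommGroup V] [Module F V] [Finite V]
variable (Q : QuadraticForm F V)

/-- the level set `{x | Q x = α}` has at most `2 |u^⊥|` points when `Q u = α ≠ 0`, in odd
characteristic. -/
theorem h7_level_card (h2 : (2 : F) ≠ 0) (u : V) (hu : Q u ≠ 0) :
    Nat.card {x : V // Q x = Q u} ≤ 2 * Nat.card (h7_perp Q u) := by
  classical
  have hB : polar Q u u ≠ 0 := by
    rw [QuadraticMap.polar_self, two_smul, ← two_mul]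
    exact mul_ne_zero h2 hu
  set f : {x : V // Q x = Q u} → h7_perp Q u :=
    fun x => ⟨x.1 - (polar Q u x.1 * (polar Q u u)⁻¹) • u, h7_decomp Q u hB x.1⟩ with hf
  refine le_trans (h8_card_le_mul_range f 2 ?_)
    (Nat.mul_le_mul_left _ (Nat.card_mono (Set.toFinite _) (Set.subset_univ _)) |>.trans ?_)
  · intro w
    by_cases hb : Nonempty {x : {x : V // Q x = Q u} // f x = w}
    · obtain ⟨⟨x0, hx0⟩⟩ := hb
      set t0 : F := polar Q u x0.1 * (polar Q u u)⁻¹ with ht0
      -- every point of the fibre is `± t0 • u + w`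
      have key : ∀ x : {x : {x : V // Q x = Q u} // f x = w},
          x.1.1 = t0 • u + (w : V) ∨ x.1.1 = (-t0) • u + (w : V) := by
        intro x
        set t : F := polar Q u x.1.1 * (polar Q u u)⁻¹ with ht
        have hxw : x.1.1 = t • u + (w : V) := by
          have := congrArg Subtype.val x.2
          simp only [hf] at this
          rw [← this]
          abel
        have hx0w : x0.1 = t0 • u + (w : V) := by
          have := congrArg Subtype.val hx0
          simp only [hf] at this
          rw [← this]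
          abel
        have e1 := x.1.2
        have e2 := x0.2
        rw [hxw, h7_Q_add_of_perp Q u _ w.2] at e1
        rw [hx0w, h7_Q_add_of_perp Q u _ w.2] at e2
        have e3 : (t * t - t0 * t0) * Q u = 0 := by
          have : t * t * Q u = t0 * t0 * Q u := by
            have := e1.trans e2.symm
            exact add_right_cancel this
          rw [sub_mul, this, sub_self]
        have e4 : (t - t0) * (t + t0) = 0 := by
          have := (mul_eq_zero.mp e3).resolve_right hu
          rw [← this]
          ring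
        rcases mul_eq_zero.mp e4 with h | h
        · left
          rw [hxw, sub_eq_zero.mp h]
        · right
          rw [hxw, eq_neg_of_add_eq_zero_left h]
      have hinj : Function.Injective
          (fun x : {x : {x : V // Q x = Q u} // f x = w} => decide (x.1.1 = t0 • u + (w : V))) := by
        intro x y hxy
        simp only at hxy
        apply Subtype.ext
        apply Subtype.ext
        by_cases hx : x.1.1 = t0 • u + (w : V)
        · have hy : y.1.1 = t0 • u + (w : V) := by
            have : decide (y.1.1 = t0 • u + (w : V)) = true := by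
              rw [← hxy]
              exact decide_eq_true hx
            exact of_decide_eq_true this
          rw [hx, hy]
        · have hy : ¬ y.1.1 = t0 • u + (w : V) := by
            have : decide (y.1.1 = t0 • u + (w : V)) = false := by
              rw [← hxy]
              exact decide_eq_false hx
            exact of_decide_eq_false this
          rw [(key x).resolve_left hx, (key y).resolve_left hy]
      have := Nat.card_le_card_of_injective _ hinj
      rw [Nat.card_eq_fintype_card (α := Bool), Fintype.card_bool] at this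
      exact this
    · rw [not_nonempty_iff] at hb
      rw [Nat.card_of_isEmpty]
      exact Nat.zero_le _
  · rw [Nat.card_coe_set_eq, Set.ncard_univ]

end level

section orbit

variable {F : Type*} [Field F] [Fintype F] {m : ℕ}
variable (Q : QuadraticForm F (Fin (m + 1) → F))

/-- the form `Q ∘ A` as a function. -/
def h7_act (A : GL (Fin (m + 1)) F) : (Fin (m + 1) → F) → F := fun x => Q (A.1 *ᵥ x)

/-- the stabiliser of `Q`. -/
def h7_stab : Set (GL (Fin (m + 1)) F) := {S | ∀ x, Q (S.1 *ᵥ x) = Q x}

theorem h7_stab_polar {S : GL (Fin (m + 1)) F} (hS : S ∈ h7_stab Q) (x y : Fin (m + 1) → F) :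
    polar Q (S.1 *ᵥ x) (S.1 *ᵥ y) = polar Q x y := by
  unfold polar
  rw [← Matrix.mulVec_add, hS (x + y), hS x, hS y]

theorem h7_inv_mulVec (S : GL (Fin (m + 1)) F) (x : Fin (m + 1) → F) :
    (S⁻¹ : GL (Fin (m + 1)) F).1 *ᵥ (S.1 *ᵥ x) = x := by
  rw [Matrix.mulVec_mulVec, ← Units.val_mul, inv_mul_cancel, Units.val_one, Matrix.one_mulVec]

theorem h7_mulVec_inv (S : GL (Fin (m + 1)) F) (x : Fin (m + 1) → F) :
    S.1 *ᵥ ((S⁻¹ : GL (Fin (m + 1)) F).1 *ᵥ x) = x := by
  rw [Matrix.mulVec_mulVec, ← Units.val_mul, mul_inv_cancel, Units.val_one, Matrix.one_mulVec]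

/-- **Step I**: `|GL_n| ≤ |Stab Q| · |orbit|`. -/
theorem h7_stepI :
    Nat.card (GL (Fin (m + 1)) F)
      ≤ Nat.card (h7_stab Q) * Nat.card (Set.range (h7_act Q)) := by
  classical
  refine h8_card_le_mul_range (h7_act Q) _ ?_
  intro b
  by_cases hb : Nonempty {A : GL (Fin (m + 1)) F // h7_act Q A = b}
  · obtain ⟨⟨A0, hA0⟩⟩ := hb
    refine Nat.card_le_card_of_injective
      (fun A : {A : GL (Fin (m + 1)) F // h7_act Q A = b} =>
        (⟨A.1 * A0⁻¹, by
          intro x
          have h1 : h7_act Q A.1 ((A0⁻¹ : GL (Fin (m + 1)) F).1 *ᵥ x)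
              = h7_act Q A0 ((A0⁻¹ : GL (Fin (m + 1)) F).1 *ᵥ x) := by rw [A.2, hA0]
          simp only [h7_act] at h1
          rw [h7_mulVec_inv] at h1
          rw [Units.val_mul, ← Matrix.mulVec_mulVec]
          exact h1⟩ : h7_stab Q)) ?_
    intro A A' h
    have h1 := congrArg Subtype.val h
    simp only at h1
    exact Subtype.ext (mul_right_cancel h1)
  · rw [not_nonempty_iff] at hb
    rw [Nat.card_of_isEmpty]
    exact Nat.zero_le _

theorem h7_mulVecLin_ker (S : GL (Fin (m + 1)) F) : LinearMap.ker (Matrix.mulVecLin S.1) = ⊥ := by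
  rw [LinearMap.ker_eq_bot]
  intro x y hxy
  simp only [Matrix.mulVecLin_apply] at hxy
  rw [← h7_inv_mulVec S x, hxy, h7_inv_mulVec]

/-- **Step II**: `|Stab Q| ≤ |GL_{n-1}| · #level set`. -/
theorem h7_stepII (u : Fin (m + 1) → F) (hu : polar Q u u ≠ 0) :
    Nat.card (h7_stab Q)
      ≤ (∏ i : Fin m, (Fintype.card F ^ m - Fintype.card F ^ (i : ℕ)))
        * Nat.card {x : Fin (m + 1) → F // Q x = Q u} := by
  classical
  set f : h7_stab Q → {x : Fin (m + 1) → F // Q x = Q u} :=
    fun S => ⟨S.1.1 *ᵥ u, S.2 u⟩ with hf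
  refine le_trans (h8_card_le_mul_range f
    (∏ i : Fin m, (Fintype.card F ^ m - Fintype.card F ^ (i : ℕ))) ?_)
    (Nat.mul_le_mul_left _ (Nat.card_mono (Set.toFinite _) (Set.subset_univ _)) |>.trans ?_)
  · intro b
    by_cases hb : Nonempty {S : h7_stab Q // f S = b}
    · obtain ⟨⟨S0, hS0⟩⟩ := hb
      obtain ⟨x, hxQ⟩ := b
      have hx0 : S0.1.1 *ᵥ u = x := congrArg Subtype.val hS0
      have hxx : polar Q x x ≠ 0 := by rw [← hx0, h7_stab_polar Q S0.2]; exact hu
      -- dimensions
      have hfr : Module.finrank F (h7_perp Q x) = m := by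
        have := h7_finrank_perp Q x hxx
        rw [Module.finrank_fin_fun] at this
        omega
      have hfr0 : Module.finrank F (h7_perp Q u) = m := by
        have := h7_finrank_perp Q u hu
        rw [Module.finrank_fin_fun] at this
        omega
      let bs : Module.Basis (Fin m) F (h7_perp Q u) := Module.finBasisOfFinrankEq F _ hfr0
      have hcount : Nat.card {s : Fin m → h7_perp Q x // LinearIndependent F s}
          = ∏ i : Fin m, (Fintype.card F ^ m - Fintype.card F ^ (i : ℕ)) := by
        rw [card_linearIndependent (le_of_eq hfr.symm), hfr]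
      rw [← hcount]
      -- the map
      have hmem : ∀ (S : {S : h7_stab Q // f S = ⟨x, hxQ⟩}) (i : Fin m),
          S.1.1.1 *ᵥ (bs i : Fin (m + 1) → F) ∈ h7_perp Q x := by
        intro S i
        have hx : S.1.1.1 *ᵥ u = x := congrArg Subtype.val S.2
        have hw := (h7_mem_perp Q u _).mp (bs i).2
        have h1 := h7_stab_polar Q S.1.2 u (bs i : Fin (m + 1) → F)
        rw [hx, hw] at h1
        exact (h7_mem_perp Q x _).mpr h1
      refine Nat.card_le_card_of_injective
        (fun S : {S : h7_stab Q // f S = ⟨x, hxQ⟩} =>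
          (⟨fun i => ⟨S.1.1.1 *ᵥ (bs i : Fin (m + 1) → F), hmem S i⟩, by
            apply LinearIndependent.of_comp (h7_perp Q x).subtype
            have h1 : LinearIndependent F (fun i => ((bs i : h7_perp Q u) : Fin (m + 1) → F)) :=
              bs.linearIndependent.map' (h7_perp Q u).subtype (Submodule.ker_subtype _)
            exact h1.map' (Matrix.mulVecLin S.1.1.1) (h7_mulVecLin_ker S.1.1)⟩ :
            {s : Fin m → h7_perp Q x // LinearIndependent F s})) ?_
      intro S S' hSS
      have hb : ∀ i, S.1.1.1 *ᵥ (bs i : Fin (m + 1) → F) = S'.1.1.1 *ᵥ (bs i : Fin (m + 1) → F) := by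
        intro i
        have h1 := congrArg Subtype.val hSS
        have h2 := congrFun h1 i
        exact congrArg Subtype.val h2
      have hu' : S.1.1.1 *ᵥ u = S'.1.1.1 *ᵥ u :=
        (congrArg Subtype.val S.2).trans (congrArg Subtype.val S'.2).symm
      -- the two linear maps agree on `u^⊥`
      have hperp : (Matrix.mulVecLin S.1.1.1).comp (h7_perp Q u).subtype
          = (Matrix.mulVecLin S'.1.1.1).comp (h7_perp Q u).subtype := by
        apply bs.ext
        intro i
        simp only [LinearMap.comp_apply, Submodule.subtype_apply, Matrix.mulVecLin_apply]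
        exact hb i
      have hall : ∀ z, S.1.1.1 *ᵥ z = S'.1.1.1 *ᵥ z := by
        intro z
        have hz := h7_decomp Q u hu z
        have h1 := LinearMap.congr_fun hperp ⟨_, hz⟩
        simp only [LinearMap.comp_apply, Submodule.subtype_apply, Matrix.mulVecLin_apply] at h1
        have h2 : z = (z - (polar Q u z * (polar Q u u)⁻¹) • u) + (polar Q u z * (polar Q u u)⁻¹) • u := by
          abel
        rw [h2, Matrix.mulVec_add, Matrix.mulVec_add, Matrix.mulVec_smul, Matrix.mulVec_smul, h1, hu']
      apply Subtype.ext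
      apply Subtype.ext
      apply Units.ext
      exact Matrix.ext_iff_mulVec.mpr hall
    · rw [not_nonempty_iff] at hb
      rw [Nat.card_of_isEmpty]
      exact Nat.zero_le _
  · rw [Nat.card_coe_set_eq, Set.ncard_univ]

/-- **the orbit bound**, abstract form. -/
theorem h7_orbit_bound (h2 : (2 : F) ≠ 0) (u : Fin (m + 1) → F) (hu : Q u ≠ 0) :
    Fintype.card F ^ (m + 1) - 1 ≤ 2 * Nat.card (Set.range (h7_act Q)) := by
  classical
  have hB : polar Q u u ≠ 0 := by
    rw [QuadraticMap.polar_self, two_smul, ← two_mul]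
    exact mul_ne_zero h2 hu
  have hI := h7_stepI Q
  have hII := h7_stepII Q u hB
  have hsplit := h7_card_GL_split (F := F) m
  have hL := h8_prod_pos (F := F) m
  have hlev := h7_level_card Q h2 u hu
  have hperp : Nat.card (h7_perp Q u) = Fintype.card F ^ m := by
    have hfr0 : Module.finrank F (h7_perp Q u) = m := by
      have := h7_finrank_perp Q u hB
      rw [Module.finrank_fin_fun] at this
      omega
    rw [Module.natCard_eq_pow_finrank (K := F), hfr0, Nat.card_eq_fintype_card]
  rw [hperp] at hlev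
  set q := Fintype.card F with hq
  set L := ∏ i : Fin m, (q ^ m - q ^ (i : ℕ)) with hLdef
  set O := Nat.card (Set.range (h7_act Q)) with hO
  set P := Nat.card {x : Fin (m + 1) → F // Q x = Q u} with hPdef
  have hq0 : 0 < q := Fintype.card_pos
  have h1 : (q ^ (m + 1) - 1) * (q ^ m * L) ≤ (2 * O) * (q ^ m * L) := by
    calc (q ^ (m + 1) - 1) * (q ^ m * L) = Nat.card (GL (Fin (m + 1)) F) := by rw [hsplit]; ring
      _ ≤ Nat.card (h7_stab Q) * O := hI
      _ ≤ (L * P) * O := Nat.mul_le_mul_right _ hII
      _ ≤ (L * (2 * q ^ m)) * O := Nat.mul_le_mul_right _ (Nat.mul_le_mul_left _ hlev)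
      _ = (2 * O) * (q ^ m * L) := by ring
  exact Nat.le_of_mul_le_mul_right h1 (Nat.mul_pos (pow_pos hq0 _) hL)

end orbit

section final

variable {F : Type*} [Field F] [Fintype F] [DecidableEq F] {n : ℕ}

theorem h7_toQF_apply {n : ℕ} (c : Matrix (Fin n) (Fin n) F) (x : Fin n → F) :
    Matrix.toQuadraticForm' c x = x ⬝ᵥ (c *ᵥ x) := by
  rw [Matrix.toQuadraticForm', LinearMap.BilinMap.toQuadraticMap_apply,
    Matrix.toLinearMap₂'_apply']

theorem h7_toQF_polar {n : ℕ} (c : Matrix (Fin n) (Fin n) F) (x y : Fin n → F) :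
    polar (Matrix.toQuadraticForm' c) x y = x ⬝ᵥ ((c + cᵀ) *ᵥ y) := by
  rw [Matrix.toQuadraticForm', LinearMap.BilinMap.polar_toQuadraticMap,
    Matrix.toLinearMap₂'_apply', Matrix.toLinearMap₂'_apply', Matrix.add_mulVec, dotProduct_add]
  congr 1
  rw [Matrix.dotProduct_mulVec, Matrix.mulVec_transpose, dotProduct_comm]

/-- **the orbit lemma (Q), odd characteristic** in helper2's shape. -/
theorem quad_orbit_odd (hodd : Odd (Fintype.card F)) (hn : 1 ≤ n)
    (c : Matrix (Fin n) (Fin n) F) (hc : c + cᵀ ≠ 0) :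
    Fintype.card F ^ n - 1 ≤ 2 * Nat.card {g : (Fin n → F) → F //
      ∃ A : GL (Fin n) F, g = fun x => (A.1 *ᵥ x) ⬝ᵥ (c *ᵥ (A.1 *ᵥ x))} := by
  classical
  obtain ⟨m, rfl⟩ : ∃ m, n = m + 1 := ⟨n - 1, by omega⟩
  -- odd characteristic
  have h2 : (2 : F) ≠ 0 := by
    apply Ring.two_ne_zero
    intro hch
    have := FiniteField.even_card_of_char_two hch
    rw [Nat.odd_iff] at hodd
    omega
  set Q : QuadraticForm F (Fin (m + 1) → F) := Matrix.toQuadraticForm' c with hQ
  -- a vector with `Q u ≠ 0`
  obtain ⟨u, hu⟩ : ∃ u, Q u ≠ 0 := by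
    by_contra hcon
    push Not at hcon
    apply hc
    ext i j
    have h1 : polar Q (Pi.single i 1) (Pi.single j 1) = 0 := by
      unfold polar
      rw [hcon, hcon, hcon]
      ring
    rw [hQ, h7_toQF_polar] at h1
    rw [Matrix.mulVec_single_one, single_one_dotProduct] at h1
    exact h1
  have hmain := h7_orbit_bound Q h2 u hu
  have hcard : Nat.card (Set.range (h7_act Q)) = Nat.card {g : (Fin (m + 1) → F) → F //
      ∃ A : GL (Fin (m + 1)) F, g = fun x => (A.1 *ᵥ x) ⬝ᵥ (c *ᵥ (A.1 *ᵥ x))} := by
    apply Nat.card_congr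
    refine Equiv.subtypeEquivRight (fun g => ?_)
    constructor
    · rintro ⟨A, rfl⟩
      refine ⟨A, ?_⟩
      funext x
      simp only [h7_act, hQ, h7_toQF_apply]
    · rintro ⟨A, rfl⟩
      refine ⟨A, ?_⟩
      funext x
      simp only [h7_act, hQ, h7_toQF_apply]
  rw [← hcard]
  exact hmain

end final

end Cfsg.Agent.WeilSp
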