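import Mathlib
import Cfsg.Agent.WeilSp.Base
import Cfsg.Agent.WeilSp.H5_SpOddLowerA
import Cfsg.Agent.WeilSp.H7_QuadOrbOdd

set_option autoImplicit false
set_option linter.unusedSectionVars false

/-!
WeilSp / S2347, piece P1 second half (helper5): every irreducible complex representation of degree
`≥ 2` of `Sp_{2n}(q)`, `q` odd, `n ≥ 2`, has degree at least `(q ^ n - 1) / 2`.
-/

namespace Cfsg.Agent.WeilSp

open Matrix

variable {F : Type*} [Field F] [Fintype F] [DecidableEq F] {n : ℕ}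

theorem sp_odd_lower (hn : 2 ≤ n) (hodd : Odd (Fintype.card F)) (k : ℕ)
    (ρ : Representation ℂ (Matrix.symplecticGroup (Fin n) F) (Fin k → ℂ))
    (hirr : ρ.IsIrreducible) (hk : 2 ≤ k) : (Fintype.card F ^ n - 1) / 2 ≤ k :=
  h5_sp_odd_lower_of_orbit hn hodd
    (fun c hc => quad_orbit_odd hodd (by omega) c hc) k ρ hirr hk

end Cfsg.Agent.WeilSp
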