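import Mathlib
import Cfsg.Agent.WeilSp.Base
import Cfsg.Agent.WeilSp.H2_HeisAlg
import Cfsg.Agent.WeilSp.H2_Weil
import Cfsg.Agent.WeilSp.H4_IrrComm
import Cfsg.Agent.WeilSp.H5_FinrankOdd

set_option autoImplicit false
set_option linter.unusedSectionVars false

/-!
WeilSp / S2347 (helper4): the existence half, assembled from the pieces, with the pieces
P3 (Skolem–Noether), P6 (`commutant_le`, `par_commute`) and P7b (`exists_irr_rep`) taken as
hypotheses.  The `(-1)`-eigenspace of the parity operator in the Weil representation `ω` of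
`Sp_{2n}(q)`, `q` odd, is an irreducible representation of dimension `(q ^ n - 1) / 2`.
-/

namespace Cfsg.Agent.WeilSp

open Matrix

variable {F : Type*} [Field F] [Fintype F] [DecidableEq F] {n : ℕ}

/-- a non-trivial additive character of a finite field. -/
theorem h4_exists_addChar_ne_one : ∃ ψ : AddChar F ℂ, ψ ≠ 1 := by
  obtain ⟨ψ, hψ⟩ := (AddChar.exists_apply_ne_zero (α := F) (a := 1)).mpr one_ne_zero
  refine ⟨ψ, fun h => hψ ?_⟩
  rw [h]
  rfl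

/-- `0 < (q ^ n - 1) / 2` for `q` odd, `q > 1`, `n ≥ 2` (indeed for `n ≥ 1`). -/
theorem h4_half_pos (hn : 2 ≤ n) (hodd : Odd (Fintype.card F)) :
    0 < (Fintype.card F ^ n - 1) / 2 := by
  have h1 : 1 < Fintype.card F := Fintype.one_lt_card
  have h3 : 3 ≤ Fintype.card F := by
    rcases hodd with ⟨k, hk⟩
    omega
  have h9 : 3 ^ 2 ≤ Fintype.card F ^ n :=
    le_trans (Nat.pow_le_pow_left h3 2) (Nat.pow_le_pow_right (by omega) hn)
  omega

/-- membership in the `(-1)`-eigenspace of the parity operator. -/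
theorem h4_mem_ker_iff (f : (Fin n → F) → ℂ) :
    f ∈ LinearMap.ker (Matrix.toLin' (par F n + 1)) ↔ par F n *ᵥ f = (-1 : ℂ) • f := by
  rw [LinearMap.mem_ker, Matrix.toLin'_apply, Matrix.add_mulVec, Matrix.one_mulVec,
    add_eq_zero_iff_eq_neg, neg_one_smul]

/-- the existence half of S2347, from the pieces. -/
theorem h4_weil_exists_of (hn : 2 ≤ n) (hodd : Odd (Fintype.card F))
    (hSN : ∀ Φ : Matrix (Fin n → F) (Fin n → F) ℂ →ₐ[ℂ] Matrix (Fin n → F) (Fin n → F) ℂ,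
      ∃ M : Matrix (Fin n → F) (Fin n → F) ℂ, IsUnit M.det ∧ ∀ X, Φ X * M = M * X)
    (hcomm : ∀ (ψ : AddChar F ℂ), ψ ≠ 1 →
      ∀ (ω : ↥(symplecticGroup (Fin n) F) →* GL (Fin n → F) ℂ),
      (∀ g v, (ω g : Matrix (Fin n → F) (Fin n → F) ℂ) * rho ψ v
        = rho ψ ((g : Matrix (Fin n ⊕ Fin n) (Fin n ⊕ Fin n) F) *ᵥ v)
          * (ω g : Matrix (Fin n → F) (Fin n → F) ℂ)) →
      ∀ T : Matrix (Fin n → F) (Fin n → F) ℂ,
      (∀ g, (ω g : Matrix (Fin n → F) (Fin n → F) ℂ) * T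
        = T * (ω g : Matrix (Fin n → F) (Fin n → F) ℂ)) →
      ∃ a b : ℂ, T = a • (1 : Matrix (Fin n → F) (Fin n → F) ℂ) + b • par F n)
    (hpar : ∀ (ψ : AddChar F ℂ), ψ ≠ 1 →
      ∀ (ω : ↥(symplecticGroup (Fin n) F) →* GL (Fin n → F) ℂ),
      (∀ g v, (ω g : Matrix (Fin n → F) (Fin n → F) ℂ) * rho ψ v
        = rho ψ ((g : Matrix (Fin n ⊕ Fin n) (Fin n ⊕ Fin n) F) *ᵥ v)
          * (ω g : Matrix (Fin n → F) (Fin n → F) ℂ)) →
      ∀ g, (ω g : Matrix (Fin n → F) (Fin n → F) ℂ) * par F n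
        = par F n * (ω g : Matrix (Fin n → F) (Fin n → F) ℂ))
    (hrep : ∀ (ω : ↥(symplecticGroup (Fin n) F) →* GL (Fin n → F) ℂ)
      (E : Submodule ℂ ((Fin n → F) → ℂ)),
      (∀ g, ∀ f ∈ E, (ω g : Matrix (Fin n → F) (Fin n → F) ℂ) *ᵥ f ∈ E) →
      (∀ U : Submodule ℂ ((Fin n → F) → ℂ), U ≤ E →
        (∀ g, ∀ f ∈ U, (ω g : Matrix (Fin n → F) (Fin n → F) ℂ) *ᵥ f ∈ U) → U = ⊥ ∨ U = E) →
      ∀ k : ℕ, Module.finrank ℂ E = k → 0 < k →
      ∃ ρ : Representation ℂ ↥(symplecticGroup (Fin n) F) (Fin k → ℂ), ρ.IsIrreducible) :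
    ∃ ρ : Representation ℂ (Matrix.symplecticGroup (Fin n) F)
      (Fin ((Fintype.card F ^ n - 1) / 2) → ℂ), ρ.IsIrreducible := by
  obtain ⟨ψ, hψ⟩ := h4_exists_addChar_ne_one (F := F)
  have h2 : (2 : F) ≠ 0 := h5_two_ne_zero hodd
  obtain ⟨ω, hω⟩ := exists_weil_of_sn hn h2 ψ hψ hSN
  have hpc := hpar ψ hψ ω hω
  have hcm := hcomm ψ hψ ω hω
  -- the `(-1)`-eigenspace of the parity operator
  set E : Submodule ℂ ((Fin n → F) → ℂ) := LinearMap.ker (Matrix.toLin' (par F n + 1)) with hEdef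
  have hE : ∀ g, ∀ f ∈ E, (ω g : Matrix (Fin n → F) (Fin n → F) ℂ) *ᵥ f ∈ E := by
    intro g f hf
    rw [hEdef, h4_mem_ker_iff] at hf ⊢
    rw [Matrix.mulVec_mulVec, ← hpc g, ← Matrix.mulVec_mulVec, hf, Matrix.mulVec_smul]
  have hirr : ∀ U : Submodule ℂ ((Fin n → F) → ℂ), U ≤ E →
      (∀ g, ∀ f ∈ U, (ω g : Matrix (Fin n → F) (Fin n → F) ℂ) *ᵥ f ∈ U) → U = ⊥ ∨ U = E := by
    intro U hUE hU
    by_cases hU0 : U = ⊥
    · exact Or.inl hU0
    · refine Or.inr (le_antisymm hUE ?_)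
      intro f hf
      rw [hEdef, h4_mem_ker_iff] at hf
      refine irr_of_commutant ω (par F n) hcm (-1) U hU ?_ hU0 f hf
      intro u hu
      have := hUE hu
      rwa [hEdef, h4_mem_ker_iff] at this
  exact hrep ω E hE hirr _ (finrank_odd hodd) (h4_half_pos hn hodd)

end Cfsg.Agent.WeilSp
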