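import Mathlib
import Cfsg.Agent.Helper7.CeN

set_option autoImplicit false

/-!
WeilSp / S2347 (helper7): the abstract lifting step.  A "projective" assignment `g ↦ {M | R g M}`
of elements of a group `H` to the elements of `Sp_{2m}(q)`, multiplicative and with `R 1 M` only
for central `M`, contains a homomorphism `Sp_{2m}(q) →* H` — because every central extension of
`Sp_{2m}(q)` splits (`Cfsg.Agent.Helper7.Cd.sp_split`).
-/

namespace Cfsg.Agent.WeilSp

open Matrix

/-- the subgroup `{(g, M) | R g M}` of `G × H`. -/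
def h7_relSubgroup {G H : Type*} [Group G] [Group H] (R : G → H → Prop) (hone : R 1 1)
    (hmul : ∀ g g' M M', R g M → R g' M' → R (g * g') (M * M'))
    (hinv : ∀ g M, R g M → R g⁻¹ M⁻¹) : Subgroup (G × H) where
  carrier := {p | R p.1 p.2}
  one_mem' := hone
  mul_mem' := fun {a b} ha hb => hmul a.1 b.1 a.2 b.2 ha hb
  inv_mem' := fun {a} ha => hinv a.1 a.2 ha

/-- **the lifting step**: a multiplicative relation between `Sp_{2m}(q)` and a group `H`, total on
the left and central over `1`, contains a homomorphism. -/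
theorem h7_exists_hom_of_rel {K : Type*} [Field K] [Fintype K] {m : ℕ} (hm : 2 ≤ m)
    (h2 : m = 2 → 3 ≤ Fintype.card K) (hexc : ¬ (m = 3 ∧ Fintype.card K = 2))
    {H : Type*} [Group H] (R : symplecticGroup (Fin m) K → H → Prop)
    (hex : ∀ g, ∃ M, R g M) (hone : R 1 1)
    (hmul : ∀ g g' M M', R g M → R g' M' → R (g * g') (M * M'))
    (hinv : ∀ g M, R g M → R g⁻¹ M⁻¹)
    (hcent : ∀ M, R 1 M → M ∈ Subgroup.center H) :
    ∃ ω : symplecticGroup (Fin m) K →* H, ∀ g, R g (ω g) := by
  set E : Subgroup (symplecticGroup (Fin m) K × H) := h7_relSubgroup R hone hmul hinv with hE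
  let ψ : E →* symplecticGroup (Fin m) K := (MonoidHom.fst _ _).comp E.subtype
  have hs : Function.Surjective ψ := by
    intro g
    obtain ⟨M, hM⟩ := hex g
    exact ⟨⟨(g, M), hM⟩, rfl⟩
  have hc : ψ.ker ≤ Subgroup.center E := by
    intro x hx
    rw [MonoidHom.mem_ker] at hx
    have hx1 : x.1.1 = 1 := hx
    have hx2 : R 1 x.1.2 := by
      have := x.2
      change R x.1.1 x.1.2 at this
      rwa [hx1] at this
    have hcen := hcent _ hx2
    rw [Subgroup.mem_center_iff]
    intro y
    apply Subtype.ext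
    apply Prod.ext
    · show y.1.1 * x.1.1 = x.1.1 * y.1.1
      rw [hx1, mul_one, one_mul]
    · show y.1.2 * x.1.2 = x.1.2 * y.1.2
      exact (Subgroup.mem_center_iff.mp hcen) y.1.2
  obtain ⟨τ, hτ⟩ := Cfsg.Agent.Helper7.Cd.sp_split hm h2 hexc ψ hs hc
  refine ⟨((MonoidHom.snd _ _).comp E.subtype).comp τ, ?_⟩
  intro g
  have h1 : ψ (τ g) = g := by
    have := congrArg (fun f => f g) hτ
    simpa using this
  have h3 : R (τ g).1.1 (τ g).1.2 := (τ g).2
  have h4 : (τ g).1.1 = g := h1
  rw [h4] at h3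
  exact h3

end Cfsg.Agent.WeilSp
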